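/-
The fibres of a class of 3-transpositions over the layer: each generates a primitive group, members of different
fibres never commute, and a product of two commuting members of one fibre moves every member of another fibre to a
different member commuting with it.
-/
import Cfsg.Agent.Lib.Fischer.Interface
import Cfsg.Agent.Lib.ThreeTrans.Fischer

set_option autoImplicit false

namespace CfsgFischer.Triality

open Cfsg CfsgLib CfsgThreeTrans

universe u

variable {G : Type u} [Group G] {D : Set G}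

/-- The members of `D` congruent to `a` modulo the layer. -/
def Fib (D : Set G) (a : G) : Set G := {x | x ∈ D ∧ a⁻¹ * x ∈ layer G}

theorem self_mem {a : G} (ha : a ∈ D) : a ∈ Fib D a := ⟨ha, by simp [one_mem]⟩

theorem fib_eq {a b : G} (hb : b ∈ Fib D a) : Fib D b = Fib D a := by
  ext x
  constructor
  · rintro ⟨hx, h⟩
    exact ⟨hx, by simpa [mul_assoc] using mul_mem hb.2 h⟩
  · rintro ⟨hx, h⟩
    exact ⟨hx, by simpa [mul_assoc] using mul_mem (inv_mem hb.2) h⟩

theorem fib_cj (hD : IsThreeTranspositionClass D) (g : G) {a x : G} (hx : x ∈ Fib D a) :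
    g * x * g⁻¹ ∈ Fib D (g * a * g⁻¹) := by
  refine ⟨cls_conj hD g hx.1, ?_⟩
  rw [show (g * a * g⁻¹)⁻¹ * (g * x * g⁻¹) = g * (a⁻¹ * x) * g⁻¹ by group]
  exact (inferInstance : (layer G).Normal).conj_mem _ hx.2 g

theorem fib_cj_layer (hD : IsThreeTranspositionClass D) {g : G} (hg : g ∈ layer G) {a x : G} (hx : x ∈ Fib D a) :
    g * x * g⁻¹ ∈ Fib D a := by
  refine ⟨cls_conj hD g hx.1, ?_⟩
  have h1 : a⁻¹ * g * a⁻¹⁻¹ ∈ layer G := (inferInstance : (layer G).Normal).conj_mem _ hg a⁻¹
  rw [show a⁻¹ * (g * x * g⁻¹) = a⁻¹ * g * a⁻¹⁻¹ * (a⁻¹ * x) * g⁻¹ by group]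
  exact mul_mem (mul_mem h1 hx.2) (inv_mem hg)

theorem fib_cj_self (hD : IsThreeTranspositionClass D) {a g x : G} (hg : g ∈ Subgroup.closure (Fib D a))
    (hx : x ∈ Fib D a) : g * x * g⁻¹ ∈ Fib D a := by
  revert x
  refine Subgroup.closure_induction'' (p := fun g _ => ∀ {x}, x ∈ Fib D a → g * x * g⁻¹ ∈ Fib D a) ?_ ?_ ?_ ?_ hg
  · intro s hs x hx
    have := fib_cj hD s (show x ∈ Fib D s from fib_eq hs ▸ hx)
    rwa [mul_inv_cancel_right, fib_eq hs] at this
  · intro s hs x hx
    rw [inv_self hD.1 hs.1]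
    have := fib_cj hD s (show x ∈ Fib D s from fib_eq hs ▸ hx)
    rwa [mul_inv_cancel_right, fib_eq hs] at this
  · intro x hx; simpa using hx
  · intro g h _ _ h1 h2 x hx
    rw [← cj_cj]
    exact h1 (h2 hx)

variable [Finite G] (hG : Good D)

include hG

theorem hD2 : ∃ a ∈ D, ∃ b ∈ D, a ≠ b := let ⟨a, ha, b, hb, h, _⟩ := hG.pair; ⟨a, ha, b, hb, h⟩

theorem h2 : pCore 2 G ≤ Subgroup.center G := hG.two ▸ bot_le

theorem h3 : pCore 3 G ≤ Subgroup.center G := hG.three ▸ bot_le

theorem layer_centralizer {x : G} (h : ∀ g ∈ layer G, Commute g x) : x = 1 :=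
  Subgroup.mem_bot.mp (hG.center ▸ centralizer_layer_le hG.cls (h2 hG) (h3 hG)
    (Subgroup.mem_centralizer_iff.mpr fun g hg => (h g hg).eq))

theorem layer_center : Subgroup.center (layer G) = ⊥ := by
  refine eq_bot_iff.mpr fun z hz => Subgroup.mem_bot.mpr (Subtype.ext ?_)
  exact Subgroup.mem_bot.mp (hG.center ▸ layer_map_center_le hG.cls (h2 hG) (h3 hG) ⟨z, hz, rfl⟩)

theorem layer_simple : IsSimpleGroup (layer G) := by
  haveI := (layer_quasisimple hG.cls (hD2 hG) (h2 hG) (h3 hG)).2
  exact ((QuotientGroup.quotientMulEquivOfEq (layer_center hG)).trans QuotientGroup.quotientBot).symm.isSimpleGroup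

theorem commute_fib {a b : G} (ha : a ∈ D) (hb : b ∈ D) (hc : Commute a b) : b ∈ Fib D a :=
  ⟨hb, by rw [inv_self hG.cls.1 ha]; exact mul_mem_layer hG.cls (hD2 hG) (h2 hG) (h3 hG) ha hb hc⟩

theorem not_commute {a b : G} (ha : a ∈ D) (hb : b ∈ D) (h : b ∉ Fib D a) : ¬ Commute a b :=
  fun hc => h (commute_fib hG ha hb hc)

/-- A nonempty set of one fibre stable under the layer generates a group containing the layer. -/
theorem layer_le {a : G} {S : Set G} (hS : S ⊆ Fib D a) (hne : S.Nonempty)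
    (hL : ∀ g ∈ layer G, ∀ x ∈ S, g * x * g⁻¹ ∈ S) : layer G ≤ Subgroup.closure S := by
  set K := Subgroup.closure S
  have hKL : ∀ g ∈ layer G, ∀ k ∈ K, g * k * g⁻¹ ∈ K := by
    intro g hg k hk
    refine Subgroup.closure_induction (p := fun k _ => g * k * g⁻¹ ∈ K) ?_ (by simp [K.one_mem]) ?_ ?_ hk
    · exact fun x hx => Subgroup.subset_closure (hL g hg x hx)
    · intro x y _ _ hx hy
      rw [show g * (x * y) * g⁻¹ = g * x * g⁻¹ * (g * y * g⁻¹) by group]
      exact mul_mem hx hy
    · intro x _ hx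
      rw [show g * x⁻¹ * g⁻¹ = (g * x * g⁻¹)⁻¹ by group]
      exact inv_mem hx
  haveI : (K.subgroupOf (layer G)).Normal := ⟨fun k hk g => hKL g g.2 k hk⟩
  rcases (layer_simple hG).eq_bot_or_eq_top_of_normal (K.subgroupOf (layer G)) inferInstance with h | h
  · exfalso
    obtain ⟨s, hs⟩ := hne
    refine layer_not_commute hG.cls (hD2 hG) (h2 hG) (h3 hG) (hS hs).1 fun g hg => ?_
    have hK : s⁻¹ * (g * s * g⁻¹) ∈ K :=
      mul_mem (inv_mem (Subgroup.subset_closure hs)) (Subgroup.subset_closure (hL g hg s hs))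
    have hl : s⁻¹ * (g * s * g⁻¹) ∈ layer G := by
      have := mul_mem (inv_mem (hS hs).2) (hS (hL g hg s hs)).2
      simpa [mul_assoc] using this
    have hm : (⟨s⁻¹ * (g * s * g⁻¹), hl⟩ : layer G) ∈ K.subgroupOf (layer G) := Subgroup.mem_subgroupOf.mpr hK
    rw [h, Subgroup.mem_bot] at hm
    have e : s⁻¹ * (g * s * g⁻¹) = 1 := congrArg Subtype.val hm
    rw [inv_mul_eq_one, eq_mul_inv_iff_mul_eq] at e
    exact e.symm
  · exact Subgroup.subgroupOf_eq_top.mp h

/-- The group generated by a fibre. -/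
abbrev Gr (D : Set G) (a : G) : Subgroup G := Subgroup.closure (Fib D a)

/-- The fibre inside the group it generates. -/
abbrev Fs (D : Set G) (a : G) : Set ↥(Gr D a) := {x | (x : G) ∈ Fib D a}

theorem layer_le_gr {a : G} (ha : a ∈ D) : layer G ≤ Gr D a :=
  layer_le hG subset_rfl ⟨a, self_mem ha⟩ fun _ hg _ hx => fib_cj_layer hG.cls hg hx

theorem fs_class {a : G} (ha : a ∈ D) : IsThreeTranspositionClass (Fs D a) := by
  classical
  have hD := hG.cls
  have hts : IsThreeTranspositionSet (Fs D a) := by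
    refine ⟨fun x hx => ?_, fun x hx y hy => ?_⟩
    · rw [← Subgroup.orderOf_coe]; exact hD.1.1 x hx.1
    · rcases hD.1.2 x hx.1 y hy.1 with h | h
      · exact Or.inl (Subtype.ext (by simpa using h))
      · exact Or.inr (Subtype.ext (by simpa using h))
  refine ⟨hts, ⟨⟨a, Subgroup.subset_closure (self_mem ha)⟩, self_mem ha, ?_⟩, ?_⟩
  · set a' : ↥(Gr D a) := ⟨a, Subgroup.subset_closure (self_mem ha)⟩
    set S : Set G := (fun x : ↥(Gr D a) => (x : G)) '' {x | IsConj a' x}
    have hS : S ⊆ Fib D a := by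
      rintro _ ⟨x, hx, rfl⟩
      obtain ⟨g, rfl⟩ := isConj_iff.1 hx
      exact fib_cj_self hD g.2 (self_mem ha)
    have hSL : ∀ g ∈ layer G, ∀ x ∈ S, g * x * g⁻¹ ∈ S := by
      rintro g hg _ ⟨x, hx, rfl⟩
      exact ⟨⟨g, layer_le_gr hG ha hg⟩ * x * ⟨g, layer_le_gr hG ha hg⟩⁻¹,
        hx.trans (isConj_iff.2 ⟨_, rfl⟩), rfl⟩
    refine Set.ext fun b => ⟨fun hb => ?_, fun hb => ?_⟩
    · by_contra hnb
      refine layer_not_commute hD (hD2 hG) (h2 hG) (h3 hG) hb.1 fun g hg => ?_
      refine Subgroup.closure_induction (p := fun g _ => Commute g (b : G)) ?_ (Commute.one_left _) ?_ ?_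
        (layer_le hG hS ⟨a, a', IsConj.refl _, rfl⟩ hSL hg)
      · rintro _ ⟨x, hx, rfl⟩
        by_contra hc
        refine hnb (hx.trans (isConj_iff.2 ⟨x * b, Subtype.ext ?_⟩))
        have hxD : (x : G) ∈ D := (hS ⟨x, hx, rfl⟩).1
        simp only [Subgroup.coe_mul, Subgroup.coe_inv]
        show (x : G) * b * x * ((x : G) * b)⁻¹ = b
        rw [mul_inv_rev, inv_self hD.1 hb.1, inv_self hD.1 hxD, braid hD.1 hxD hb.1 hc]
        simp only [mul_assoc, mul_mul_cancel_self (mul_self hD.1 hb.1)]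
        rw [mul_self hD.1 hxD, mul_one]
      · exact fun _ _ _ _ h h' => h.mul_left h'
      · exact fun _ _ h => h.inv_left
    · exact hS ⟨b, hb, rfl⟩
  · exact Subgroup.closure_closure_coe_preimage

theorem gr_commutator {a : G} (ha : a ∈ D) : commutator ↥(Gr D a) = (layer G).subgroupOf (Gr D a) := by
  haveI : ((layer G).subgroupOf (Gr D a)).Normal := Subgroup.normal_subgroupOf
  refine le_antisymm ?_ ?_
  · exact commutator_le_of_mod (fs_class hG ha) (d := ⟨a, Subgroup.subset_closure (self_mem ha)⟩) (self_mem ha) _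
      fun x hx => hx.2
  · refine (Subgroup.map_le_map_iff_of_injective (Gr D a).subtype_injective).mp ?_
    rw [Subgroup.map_subgroupOf_eq_of_le (layer_le_gr hG ha), commutator_def, Subgroup.map_commutator,
      ← MonoidHom.range_eq_map, Subgroup.range_subtype, ← layer_commutator_self]
    exact Subgroup.commutator_mono (layer_le_gr hG ha) (layer_le_gr hG ha)

theorem gr_center {a : G} (ha : a ∈ D) : Subgroup.center ↥(Gr D a) = ⊥ := by
  refine eq_bot_iff.mpr fun z hz => Subgroup.mem_bot.mpr (Subtype.ext (layer_centralizer hG fun g hg => ?_))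
  exact congrArg Subtype.val (Subgroup.mem_center_iff.mp hz ⟨g, layer_le_gr hG ha hg⟩)

theorem gr_core {a : G} (ha : a ∈ D) (p : ℕ) (hp : p.Prime) : pCore p ↥(Gr D a) = ⊥ := by
  haveI : Fact p.Prime := ⟨hp⟩
  set P := pCore p ↥(Gr D a)
  set N := (layer G).subgroupOf (Gr D a)
  haveI : N.Normal := Subgroup.normal_subgroupOf
  haveI := layer_simple hG
  haveI : IsSimpleGroup N := (Subgroup.subgroupOfEquivOfLe (layer_le_gr hG ha)).isSimpleGroup
  haveI : (P.subgroupOf N).Normal := Subgroup.normal_subgroupOf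
  have hPN : P ⊓ N = ⊥ := by
    rcases IsSimpleGroup.eq_bot_or_eq_top_of_normal (P.subgroupOf N) inferInstance with h | h
    · exact disjoint_iff.mp (Subgroup.subgroupOf_eq_bot.mp h)
    · exfalso
      have hle : N ≤ P := Subgroup.subgroupOf_eq_top.mp h
      have hp' : IsPGroup p ↥(layer G) :=
        ((isPGroup_pCore (G := ↥(Gr D a)) p).to_le hle).of_equiv (Subgroup.subgroupOfEquivOfLe (layer_le_gr hG ha))
      haveI : Nontrivial ↥(layer G) := (layer_simple hG).toNontrivial
      haveI := hp'.center_nontrivial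
      exact (Subgroup.nontrivial_iff_ne_bot _).mp inferInstance (layer_center hG)
  refine eq_bot_iff.mpr fun z hz => Subgroup.mem_bot.mpr (Subtype.ext (layer_centralizer hG fun g hg => ?_))
  have h := Subgroup.commutator_le_inf N P (Subgroup.commutator_mem_commutator
    (show (⟨g, layer_le_gr hG ha hg⟩ : ↥(Gr D a)) ∈ N from hg) hz)
  rw [inf_comm, hPN, Subgroup.mem_bot, commutatorElement_eq_one_iff_mul_comm] at h
  exact congrArg Subtype.val h

theorem gr_prim {a : G} (ha : a ∈ D) : Prim (Fs D a) := by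
  have hc := fs_class hG ha
  have hZ := gr_center hG ha
  have hw := pair_of_cores hc ?_ (gr_core hG ha 3 Nat.prime_three ▸ bot_le)
  · refine ⟨⟨hc, hZ, gr_core hG ha 2 Nat.prime_two, gr_core hG ha 3 Nat.prime_three, hw⟩, ?_⟩
    refine (equivalences hc hZ hw).1.mp ?_
    haveI := layer_simple hG
    rw [gr_commutator hG ha]
    exact (Subgroup.subgroupOfEquivOfLe (layer_le_gr hG ha)).isSimpleGroup
  · by_contra h
    push Not at h
    refine layer_not_commute hG.cls (hD2 hG) (h2 hG) (h3 hG) ha fun g hg => ?_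
    have e : g * a * g⁻¹ = a := congrArg Subtype.val (h
      ⟨_, Subgroup.subset_closure (fib_cj_layer hG.cls hg (self_mem ha))⟩
      (fib_cj_layer hG.cls hg (self_mem ha)) ⟨a, Subgroup.subset_closure (self_mem ha)⟩ (self_mem ha))
    exact mul_inv_eq_iff_eq_mul.mp e

theorem exists_other (hdisc : ¬ (commutingGraph D).Connected) {a : G} (ha : a ∈ D) : ∃ b ∈ D, b ∉ Fib D a := by
  by_contra h
  push Not at h
  have e : commutator G = layer G :=
    le_antisymm (commutator_le_of_mod hG.cls ha _ fun x hx => (h x hx).2) layer_le_commutator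
  have hp := (equivalences hG.cls hG.center hG.pair).1.mp (e ▸ layer_simple hG)
  exact hdisc ((equivalences hG.cls hG.center hG.pair).2.mp hp).2.2

/-- A product of two commuting members of one fibre moves a member of another fibre to a different partner. -/
theorem moves {a x x' y : G} (hx : x ∈ Fib D a) (hx' : x' ∈ Fib D a) (hy : y ∈ D) (hya : y ∉ Fib D a)
    (hne : x ≠ x') (hc : Commute x x') :
    (x * x') * y * (x * x')⁻¹ ≠ y ∧ Commute y ((x * x') * y * (x * x')⁻¹) := by
  have hD := hG.cls.1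
  have hnx : ¬ Commute x y := fun h => by
    have := commute_fib hG hx.1 hy h
    rw [fib_eq hx] at this
    exact hya this
  have hnx' : ¬ Commute x' y := fun h => by
    have := commute_fib hG hx'.1 hy h
    rw [fib_eq hx'] at this
    exact hya this
  have e : (x * x') * y * (x * x')⁻¹ = x * (y * x' * y) * x⁻¹ := by
    rw [← braid hD hx'.1 hy hnx', inv_self hD hx.1, mul_inv_rev, inv_self hD hx.1, inv_self hD hx'.1]
    simp only [mul_assoc]
  have e2 : x * (y * x * y) * x⁻¹ = y := by
    rw [← braid hD hx.1 hy hnx, inv_self hD hx.1]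
    simp only [mul_assoc, mul_mul_cancel_self (mul_self hD hx.1), mul_self hD hx.1, mul_one]
  refine ⟨fun h => hne ?_, ?_⟩
  · rw [e] at h
    have := (cj_injective x) (show (fun z => x * z * x⁻¹) (y * x' * y) = (fun z => x * z * x⁻¹) (y * x * y) from
      h.trans e2.symm)
    exact (mul_left_cancel (mul_right_cancel this)).symm
  · rw [e]
    have h' : Commute (y * x * y) (y * x' * y) := by
      have := (commute_cj_iff y).mpr hc
      rwa [inv_self hD hy] at this
    have h'' := (commute_cj_iff x).mpr h'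
    rwa [e2] at h''

end CfsgFischer.Triality
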