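/-
Elements moving every member of a class to a different member commuting with it; symmetric, symplectic and unitary
classes have none.
-/
import Cfsg.Agent.Lib.Fischer.Triality.Fibres
import Cfsg.Agent.Lib.ThreeTrans.UnitaryClass
import Cfsg.Agent.Lib.ReflClass.Unitary
import Cfsg.Agent.S0440

set_option autoImplicit false

namespace CfsgFischer.Triality

open Cfsg CfsgLib CfsgThreeTrans Matrix

universe u v

/-- An involution carrying every member of `E` to a different member commuting with it. -/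
def IsMover {X : Type u} [Group X] (E : Set X) (h : X) : Prop :=
  h * h = 1 ∧ ∀ p ∈ E, h * p * h⁻¹ ≠ p ∧ Commute p (h * p * h⁻¹)

theorem IsMover.map {X : Type u} [Group X] {K : Type v} [Group K] {E : Set X} {T : Set K} (e : X ≃* K)
    (he : e '' E = T) {h : X} (hh : IsMover E h) : IsMover T (e h) := by
  refine ⟨by rw [← map_mul, hh.1, map_one], ?_⟩
  intro q hp
  rw [← he] at hp
  obtain ⟨p, hp, rfl⟩ := hp
  obtain ⟨h1, h2⟩ := hh.2 p hp
  rw [← map_inv, ← map_mul, ← map_mul]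
  exact ⟨fun e' => h1 (e.injective e'), h2.map e.toMonoidHom⟩

section Group

variable {G : Type u} [Group G] [Finite G] {D : Set G} (hG : Good D)

include hG

theorem mover_of_pair {a b x x' : G} (ha : a ∈ D) (hb : b ∈ D) (hba : b ∉ Fib D a) (hx : x ∈ Fib D b)
    (hx' : x' ∈ Fib D b) (hne : x ≠ x') (hc : Commute x x') :
    ∃ h : ↥(Gr D a), (h : G) = x * x' ∧ IsMover (Fs D a) h := by
  have hL : x * x' ∈ layer G := mul_mem_layer hG.cls (hD2 hG) (h2 hG) (h3 hG) hx.1 hx'.1 hc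
  refine ⟨⟨x * x', layer_le_gr hG ha hL⟩, rfl, Subtype.ext ?_, fun p hp => ?_⟩
  · show x * x' * (x * x') = 1
    rw [← sq]; exact sq_of_commute hG.cls.1 hx.1 hx'.1 hc
  · have hpb : (p : G) ∉ Fib D b := fun h => hba (by
      rw [← fib_eq hp, fib_eq h]; exact self_mem hb)
    obtain ⟨h1, h2⟩ := moves hG hx hx' hp.1 hpb hne hc
    exact ⟨fun e => h1 (congrArg Subtype.val e), Subtype.ext h2.eq⟩

theorem exists_pair {b : G} (hb : b ∈ D) :
    ∃ x ∈ Fib D b, ∃ x' ∈ Fib D b, x ≠ x' ∧ Commute x x' := by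
  obtain ⟨x, hx, x', hx', hne, hc⟩ := (gr_prim hG hb).pair
  exact ⟨x, hx, x', hx', fun e => hne (Subtype.ext e), congrArg Subtype.val hc.eq⟩

theorem exists_mover (hdisc : ¬ (commutingGraph D).Connected) {a : G} (ha : a ∈ D) :
    ∃ h : ↥(Gr D a), IsMover (Fs D a) h := by
  obtain ⟨b, hb, hba⟩ := exists_other hG hdisc ha
  obtain ⟨x, hx, x', hx', hne, hc⟩ := exists_pair hG hb
  obtain ⟨h, -, hh⟩ := mover_of_pair hG ha hb hba hx hx' hne hc
  exact ⟨h, hh⟩

end Group

theorem swap_moved {n : ℕ} (hn : 2 ≤ n) (σ : Equiv.Perm (Fin n)) :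
    ¬ IsMover {τ : Equiv.Perm (Fin n) | τ.IsSwap} σ := by
  intro hσ
  by_cases h1 : ∀ i, σ i = i
  · have e : σ = 1 := Equiv.ext h1
    have hs : (Equiv.swap (⟨0, by omega⟩ : Fin n) ⟨1, by omega⟩).IsSwap :=
      ⟨_, _, by simp [Fin.ext_iff], rfl⟩
    exact (hσ.2 _ hs).1 (by rw [e, one_mul, inv_one, mul_one])
  · push Not at h1
    obtain ⟨i, hi⟩ := h1
    refine (hσ.2 (Equiv.swap i (σ i)) ⟨_, _, fun e => hi e.symm, rfl⟩).1 ?_
    have h2 : σ (σ i) = i := by rw [← Equiv.Perm.mul_apply, hσ.1, Equiv.Perm.one_apply]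
    rw [Equiv.mul_swap_eq_swap_mul, mul_inv_cancel_right, h2, Equiv.swap_comm]

theorem symp_moved {m : ℕ} (hm : 1 ≤ m) (g : Matrix.symplecticGroup (Fin m) (ZMod 2)) :
    ¬ IsMover {g : Matrix.symplecticGroup (Fin m) (ZMod 2) |
      ((g : Matrix (Fin m ⊕ Fin m) (Fin m ⊕ Fin m) (ZMod 2)) - 1).rank = 1} g := by
  intro hg
  obtain ⟨u, hu, hfix⟩ : ∃ u, u ≠ 0 ∧ g.1 *ᵥ u = u := by
    set v : Fin m ⊕ Fin m → ZMod 2 := Pi.single (Sum.inl ⟨0, by omega⟩) 1
    have hv : v ≠ 0 := fun e => one_ne_zero (α := ZMod 2) (by simpa [v] using congrFun e (Sum.inl ⟨0, by omega⟩))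
    by_cases h0 : v + g.1 *ᵥ v = 0
    · refine ⟨v, hv, ?_⟩
      rw [add_eq_zero_iff_eq_neg, ← neg_inj, neg_neg] at h0
      rw [← h0]; funext i; simp [ZMod.neg_eq_self_mod_two]
    · refine ⟨_, h0, ?_⟩
      rw [mulVec_add, ← SympGen.mul_apply, hg.1, SympGen.one_apply, add_comm]
  refine (hg.2 (SympTransvection.tv u 1) (Cfsg.Agent.S0440.rank_tv hu)).1 ?_
  rw [SympGen.conj_tv, hfix]

section Unitary

variable {F : Type} [Field F] [Fintype F] [DecidableEq F] {n : ℕ} (hF : Fintype.card F = 2 ^ 2)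

local notation "h'" => Cfsg.hermForm n F 2

include hF

open CfsgLib.UnitaryTransvection CfsgLib.UnitarySimple

theorem isotropic_comb {u v : Fin n → F} (hind : LinearIndependent F ![u, v]) :
    ∃ w ∈ Submodule.span F ({u, v} : Set (Fin n → F)), w ≠ 0 ∧ h' w w = 0 := by
  have hu0 : u ≠ 0 := hind.ne_zero 0
  have hv0 : v ≠ 0 := hind.ne_zero 1
  have hval : ∀ x : Fin n → F, h' x x = 0 ∨ h' x x = 1 := fun x =>
    CfsgUniqueTT.Unitary.fixed hF (h_swap hF x x)
  rcases hval u with hu | hu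
  · exact ⟨u, Submodule.subset_span (Or.inl rfl), hu0, hu⟩
  rcases hval v with hv | hv
  · exact ⟨v, Submodule.subset_span (Or.inr rfl), hv0, hv⟩
  obtain ⟨l, hl0, hl⟩ : ∃ l : F, l ≠ 0 ∧ frob hF l * h' u v + l * h' v u = 0 := by
    by_cases hc : h' u v = 0
    · exact ⟨1, one_ne_zero, by rw [← h_swap hF u v, hc, map_zero, mul_zero, mul_zero, add_zero]⟩
    · refine ⟨frob hF (h' u v)⁻¹, (map_ne_zero _).mpr (inv_ne_zero hc), ?_⟩
      rw [frob_frob, inv_mul_cancel₀ hc, ← h_swap hF u v, ← map_mul, inv_mul_cancel₀ hc, map_one]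
      exact CfsgUniqueTT.Unitary.add_self hF 1
  refine ⟨u + l • v, add_mem (Submodule.subset_span (Or.inl rfl))
    (Submodule.smul_mem _ _ (Submodule.subset_span (Or.inr rfl))), fun e => ?_, ?_⟩
  · exact hl0 (LinearIndependent.pair_iff.mp hind 1 l (by rwa [one_smul])).2
  · rw [h_add_left, h_add_right hF, h_add_right hF, h_smul_left, h_smul_right hF, h_smul_left, h_smul_right hF,
      hu, hv]
    linear_combination hl + CfsgReflClass.cube hF hl0 + CfsgUniqueTT.Unitary.add_self hF 1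

theorem unit_moved (hn : 4 ≤ n) (g : Cfsg.PSU n F 2) :
    ¬ IsMover ((QuotientGroup.mk : ↥(Cfsg.SU n F 2) → Cfsg.PSU n F 2) ''
      {g : ↥(Cfsg.SU n F 2) | (((g : Matrix.SpecialLinearGroup (Fin n) F) : Matrix (Fin n) (Fin n) F) - 1).rank = 1})
      g := by
  intro hg
  obtain ⟨k₀, rfl⟩ := QuotientGroup.mk_surjective g
  -- replace the lift by an involution
  have hz : k₀ * k₀ ∈ Subgroup.center (Cfsg.SU n F 2) := (QuotientGroup.eq_one_iff _).mp hg.1
  obtain ⟨c, hc⟩ := scalar_of_fix hF (by omega) (k₀ * k₀) fun x => by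
    obtain ⟨e, he0, he, rfl⟩ := pt_surj x
    have h1 := Subgroup.mem_center_iff.mp hz (CfsgUniqueTT.Unitary.tu hF e)
    have h2 : CfsgUniqueTT.Unitary.tu hF e = CfsgUniqueTT.Unitary.tu hF (mat (k₀ * k₀) *ᵥ e) := by
      rw [← CfsgUniqueTT.Unitary.tu_conj hF _ he, ← h1, mul_inv_cancel_right]
    obtain ⟨t, ht⟩ := CfsgUniqueTT.Unitary.tu_point hF he he0 (by rw [su_h]; exact he) h2
    have ht0 : t ≠ 0 := fun e0 => he0 (by rw [ht, e0, zero_smul])
    refine smul_pt_eq _ he0 he he0 he t⁻¹ ?_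
    conv_rhs => rw [ht, inv_smul_smul₀ ht0]
  have hc3 : c ^ 3 = 1 := CfsgUniqueTT.Unitary.cube hF fun e0 => by
    have h1 := hc (Pi.single ⟨0, by omega⟩ 1)
    rw [e0, zero_smul] at h1
    exact mat_ne_zero (k₀ * k₀) (fun e => one_ne_zero (α := F)
      (by simpa using congrFun e (⟨0, by omega⟩ : Fin n))) h1
  set k := k₀ * (k₀ * k₀) with hk
  have hkk : ∀ x, mat k *ᵥ (mat k *ᵥ x) = x := by
    intro x
    have e : k * k = k₀ * k₀ * (k₀ * k₀) * (k₀ * k₀) := by simp only [hk, mul_assoc]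
    rw [mulVec_mulVec, ← mat_mul, e, mat_mul, mat_mul, ← mulVec_mulVec, ← mulVec_mulVec, hc, hc, hc,
      smul_smul, smul_smul, show c * c * c = c ^ 3 by ring, hc3, one_smul]
  have hkq : (QuotientGroup.mk k : Cfsg.PSU n F 2) = QuotientGroup.mk k₀ := by
    rw [hk, QuotientGroup.mk_mul, (QuotientGroup.eq_one_iff _).mpr hz, mul_one]
  -- a fixed isotropic vector
  set A : (Fin n → F) →ₗ[F] (Fin n → F) := Matrix.mulVecLin (mat k) + 1 with hA
  have hAx : ∀ x, A x = mat k *ᵥ x + x := fun x => rfl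
  have hker : ∀ x, x ∈ LinearMap.ker A ↔ mat k *ᵥ x = x := fun x => by
    rw [LinearMap.mem_ker, hAx]
    constructor
    · intro e; rw [add_eq_zero_iff_eq_neg] at e; rw [e]; funext i; exact CfsgReflClass.neg_id hF _
    · intro e; rw [e]; exact CfsgUniqueTT.Unitary.vadd_self hF x
  have hrk : LinearMap.range A ≤ LinearMap.ker A := by
    rintro _ ⟨x, rfl⟩
    rw [hker, hAx, mulVec_add, hkk, add_comm]
  have h2 : 2 ≤ Module.finrank F (LinearMap.ker A) := by
    have h1 := LinearMap.finrank_range_add_finrank_ker A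
    have h3 := Submodule.finrank_mono hrk
    rw [Module.finrank_fin_fun] at h1
    omega
  obtain ⟨f, hf⟩ := exists_linearIndependent_of_le_finrank (R := F) (M := LinearMap.ker A) h2
  have hind : LinearIndependent F ![(f 0 : Fin n → F), (f 1 : Fin n → F)] := by
    rw [LinearIndependent.pair_iff]
    intro a b e
    have hf' : LinearIndependent F ![f 0, f 1] := by
      convert hf using 1
      funext i; fin_cases i <;> rfl
    exact LinearIndependent.pair_iff.mp hf' a b (Subtype.ext e)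
  obtain ⟨w, hw, hw0, hww⟩ := isotropic_comb hF hind
  have hwA : w ∈ LinearMap.ker A :=
    (Submodule.span_le.mpr (by rintro x (rfl | rfl); exacts [(f 0).2, (f 1).2])) hw
  have hr : (mat (CfsgUniqueTT.Unitary.tu hF w) - 1).rank = 1 :=
    (CfsgReflClass.rank_one hF _).mpr ⟨w, hw0, hww, CfsgUniqueTT.Unitary.tu_mulVec hF hww⟩
  have hm : (QuotientGroup.mk (CfsgUniqueTT.Unitary.tu hF w) : Cfsg.PSU n F 2) ∈
      (QuotientGroup.mk : ↥(Cfsg.SU n F 2) → Cfsg.PSU n F 2) ''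
        {g : ↥(Cfsg.SU n F 2) | (((g : Matrix.SpecialLinearGroup (Fin n) F) : Matrix (Fin n) (Fin n) F) - 1).rank = 1} :=
    ⟨_, hr, rfl⟩
  refine (hg.2 _ hm).1 ?_
  rw [← hkq, ← QuotientGroup.mk_inv, ← QuotientGroup.mk_mul, ← QuotientGroup.mk_mul,
    CfsgUniqueTT.Unitary.tu_conj hF k hww, (hker w).mp hwA]

end Unitary

end CfsgFischer.Triality
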