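/-
Movers of a reflection class over three elements square to minus one, and so the dimension is even and the space
has a basis of orthogonal vectors of the given norm in pairs exchanged up to sign by the mover.
-/
import Cfsg.Agent.Lib.Fischer.Triality.Movers
import Cfsg.Agent.Lib.Fischer.Refl.Coord

set_option autoImplicit false
set_option linter.unusedSectionVars false

namespace CfsgFischer.Refl

open Cfsg CfsgThreeTrans QuadraticMap CfsgReflClass Matrix CfsgFischer.Triality

variable {n : ℕ} {Q : QuadraticForm K (V n)} {c : K}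

/-- The action on vectors. -/
abbrev act (r : ↥(Cfsg.reflectionSubgroup (⇑Q) c)) (x : V n) : V n := r.1.1.1 *ᵥ x

theorem act_mul (r s : ↥(Cfsg.reflectionSubgroup (⇑Q) c)) (x : V n) : act (r * s) x = act r (act s x) :=
  iso_mul Q r.1 s.1 x

theorem act_one (x : V n) : act (1 : ↥(Cfsg.reflectionSubgroup (⇑Q) c)) x = x := iso_one Q x

theorem act_inv (r : ↥(Cfsg.reflectionSubgroup (⇑Q) c)) (x : V n) : act r⁻¹ (act r x) = x := by
  rw [← act_mul, inv_mul_cancel, act_one]

theorem act_inv' (r : ↥(Cfsg.reflectionSubgroup (⇑Q) c)) (x : V n) : act r (act r⁻¹ x) = x := by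
  rw [← act_mul, mul_inv_cancel, act_one]

theorem act_Q (r : ↥(Cfsg.reflectionSubgroup (⇑Q) c)) (x : V n) : Q (act r x) = Q x := iso_map Q r.1 x

theorem act_B (r : ↥(Cfsg.reflectionSubgroup (⇑Q) c)) (x y : V n) : B Q (act r x) (act r y) = B Q x y :=
  polar_map Q r.1 x y

theorem act_add (r : ↥(Cfsg.reflectionSubgroup (⇑Q) c)) (x y : V n) : act r (x + y) = act r x + act r y :=
  Matrix.mulVec_add _ x y

theorem act_smul (r : ↥(Cfsg.reflectionSubgroup (⇑Q) c)) (s : K) (x : V n) : act r (s • x) = s • act r x :=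
  Matrix.mulVec_smul _ s x

theorem act_neg (r : ↥(Cfsg.reflectionSubgroup (⇑Q) c)) (x : V n) : act r (-x) = -act r x := by
  rw [← neg_one_smul K x, act_smul, neg_one_smul]

theorem act_pm (r : ↥(Cfsg.reflectionSubgroup (⇑Q) c)) {x y : V n} (h : PM x y) : PM (act r x) (act r y) := by
  rcases h with rfl | rfl
  exacts [Or.inl rfl, Or.inr (act_neg r y)]

theorem act_ext {r s : ↥(Cfsg.reflectionSubgroup (⇑Q) c)} (h : ∀ x, act r x = act s x) : r = s :=
  Subtype.ext (iso_ext Q h)

/-- Orthogonal anisotropic vectors are independent. -/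
theorem ortho_indep {ι : Type*} [Finite ι] (e : ι → V n) (he : ∀ i, Q (e i) ≠ 0)
    (horth : ∀ i j, i ≠ j → B Q (e i) (e j) = 0) : LinearIndependent K e := by
  classical
  haveI := Fintype.ofFinite ι
  rw [Fintype.linearIndependent_iff]
  intro a ha i
  have h : B Q (e i) (∑ j, a j • e j) = 0 := by rw [ha, B_symm, B_zero_l]
  rw [B, ← polarBilin_apply_apply, map_sum, Finset.sum_eq_single i (fun j _ hj => by
    rw [map_smul, polarBilin_apply_apply, show polar (⇑Q) (e i) (e j) = 0 from horth i j hj.symm, smul_zero])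
    (fun h => absurd (Finset.mem_univ i) h), map_smul, polarBilin_apply_apply, smul_eq_mul,
    show polar (⇑Q) (e i) (e i) = -Q (e i) from B_self Q (e i), mul_neg, neg_eq_zero] at h
  exact (mul_eq_zero.mp h).resolve_right (he i)

theorem ortho_card_le {ι : Type*} [Finite ι] (e : ι → V n) (he : ∀ i, Q (e i) ≠ 0)
    (horth : ∀ i j, i ≠ j → B Q (e i) (e j) = 0) : Nat.card ι ≤ n := by
  classical
  haveI := Fintype.ofFinite ι
  have := (ortho_indep e he horth).fintype_card_le_finrank
  rwa [Module.finrank_fin_fun, ← Nat.card_eq_fintype_card] at this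

/-- Elements agreeing on a full orthogonal frame are equal. -/
theorem act_ext_frame {ι : Type*} [Finite ι] (e : ι → V n) (he : ∀ i, Q (e i) ≠ 0)
    (horth : ∀ i j, i ≠ j → B Q (e i) (e j) = 0) (hcard : Nat.card ι = n)
    {r s : ↥(Cfsg.reflectionSubgroup (⇑Q) c)} (h : ∀ i, act r (e i) = act s (e i)) : r = s := by
  classical
  haveI := Fintype.ofFinite ι
  refine act_ext fun x => ?_
  have hs : x ∈ Submodule.span K (Set.range e) := by
    rw [(ortho_indep e he horth).span_eq_top_of_card_eq_finrank'
      (by rw [Module.finrank_fin_fun, ← Nat.card_eq_fintype_card, hcard])]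
    trivial
  induction hs using Submodule.span_induction with
  | mem x hx => obtain ⟨i, rfl⟩ := hx; exact h i
  | zero => simp [act]
  | add x y _ _ h1 h2 => rw [act_add, act_add, h1, h2]
  | smul a x _ h1 => rw [act_smul, act_smul, h1]

theorem refl_fix {r : ↥(Cfsg.reflectionSubgroup (⇑Q) c)} (hc : c ≠ 0) {v x : V n} (hv : Q v = c)
    (hr : IsRefl Q r.1 v) : act r x = sig Q c v x := refl_eq_sig hc hv hr x

section Nondeg

variable (hQ : (polarBilin Q).Nondegenerate) (hn : 5 ≤ n) (hc : c ≠ 0)
include hQ hn hc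

/-- A vector perpendicular to all vectors of norm `c` is zero. -/
theorem eq_zero_of_perp {x : V n} (h : ∀ v, Q v = c → B Q x v = 0) : x = 0 := by
  by_contra hx
  rcases three_cases c (Q x) hc with e | e | e
  · obtain ⟨z, hz, -, hxz⟩ := exists_norm_off hQ (r := x) (l := [])
      (by simpa using hx) e (by simp) c
    exact hxz (h z hz)
  · have := h x e
    rw [B_self, e, neg_eq_zero] at this
    exact hc this
  · obtain ⟨w, hw, hwc⟩ := exists_orth_norm hQ (k := 1) (by omega) ![x]
      (fun i => by fin_cases i; simp [e, hc])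
      (fun i j hij => absurd (Subsingleton.elim i j) hij) (neg_ne_zero.mpr hc)
    have hxw : B Q x w = 0 := hw 0
    have h1 : Q (x + w) = c := by
      rw [Q_add, e, hwc, hxw, add_zero, neg_add_self]
    have := h _ h1
    rw [B_add_r, B_self, e, hxw, add_zero, neg_neg] at this
    exact hc this

/-- A central element has a sign. -/
theorem central_sign {z : ↥(Cfsg.reflectionSubgroup (⇑Q) c)}
    (hz : z ∈ Subgroup.center ↥(Cfsg.reflectionSubgroup (⇑Q) c)) :
    ∃ s : K, (s = 1 ∨ s = -1) ∧ ∀ x, act z x = s • x := by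
  have hpm : ∀ v, Q v = c → ∃ s : K, (s = 1 ∨ s = -1) ∧ act z v = s • v := by
    intro v hv
    obtain ⟨g, -, hgv⟩ := rset_of_vec hc hv
    have h := hgv.conj (g := z.1)
    rw [show z.1 * g.1 * z.1⁻¹ = g.1 from congrArg Subtype.val
      (show z * g * z⁻¹ = g by rw [← Subgroup.mem_center_iff.mp hz g, mul_inv_cancel_right])] at h
    rcases pm_of_refl hc hv ((act_Q z v).trans hv) hgv h with e | e
    · exact ⟨1, Or.inl rfl, by rw [one_smul]; exact e⟩
    · exact ⟨-1, Or.inr rfl, by rw [neg_one_smul]; exact e⟩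
  obtain ⟨v₀, -, hv₀⟩ := exists_orth_norm hQ (k := 0) (by omega) ![] (fun i => i.elim0) (fun i => i.elim0) hc
  obtain ⟨s, hs, hsv⟩ := hpm v₀ hv₀
  have hstep : ∀ v w, Q v = c → Q w = c → B Q v w ≠ 0 → act z v = s • v → act z w = s • w := by
    intro v w hv hw hvw he
    obtain ⟨t, ht, htw⟩ := hpm w hw
    rcases (show PM v w ∨ ¬ PM v w from em _) with hp | hp
    · rcases hp with rfl | rfl
      · exact he
      · rw [act_neg, smul_neg, neg_inj] at he; exact he
    obtain ⟨p, hp', hpu⟩ := hpm (sig Q c v w) ((Q_sig hc hv w).trans hw)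
    have hk : -(c * B Q v w) ≠ 0 := neg_ne_zero.mpr (mul_ne_zero hc hvw)
    rw [sig, act_add, act_smul, htw, he, smul_add, smul_smul, smul_smul] at hpu
    have hind : ∀ a b : K, a • w + b • v = 0 → a = 0 ∧ b = 0 := by
      intro a b hab
      by_cases ha : a = 0
      · refine ⟨ha, ?_⟩
        rw [ha, zero_smul, zero_add, smul_eq_zero] at hab
        exact hab.resolve_right fun e => hc (by rw [← hv, e, QuadraticMap.map_zero])
      · exfalso
        have hw' : w = (-(a * b)) • v := by
          have h2 : a • (a • w + b • v) = 0 := by rw [hab, smul_zero]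
          rw [smul_add, smul_smul, smul_smul, sq_one a ha, one_smul] at h2
          rw [neg_smul]
          exact eq_neg_of_add_eq_zero_left h2
        by_cases hb : -(a * b) = 0
        · rw [hb, zero_smul] at hw'; exact hc (by rw [← hw, hw', QuadraticMap.map_zero])
        · exact hp ((PM.rfl' v).smul hb |>.symm |> fun h => hw' ▸ h)
    have e := hind (t - p) (-(c * B Q v w) * s - p * -(c * B Q v w)) (by
      linear_combination (norm := module) hpu)
    obtain ⟨e1, e2⟩ := e
    have : p = s := by
      have h3 : (-(c * B Q v w)) * (s - p) = 0 := by linear_combination e2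
      exact (sub_eq_zero.mp ((mul_eq_zero.mp h3).resolve_left hk)).symm
    rw [htw, sub_eq_zero.mp e1, this]
  have hall : ∀ v, Q v = c → act z v = s • v := by
    intro v hv
    by_cases h : B Q v₀ v = 0
    · obtain ⟨w, hw, h1, h2⟩ := exists_linking hQ hn hc hv₀ hv h
      exact hstep w v hw hv h2 (hstep v₀ w hv₀ hw h1 hsv)
    · exact hstep v₀ v hv₀ hv h hsv
  have hs2 : s * s = 1 := by rcases hs with rfl | rfl <;> simp
  refine ⟨s, hs, fun x => sub_eq_zero.mp (eq_zero_of_perp hQ hn hc fun v hv => ?_)⟩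
  have h := act_B z x v
  rw [hall v hv, B_smul_r] at h
  rw [B_sub_l, B_smul_l, ← h, ← mul_assoc, hs2, one_mul, sub_self]

/-- The lift of a mover. -/
theorem mover_lift {g : ↥(Cfsg.reflectionSubgroup (⇑Q) c)}
    (hg : IsMover ((QuotientGroup.mk : ↥(Cfsg.reflectionSubgroup (⇑Q) c) →
      ↥(Cfsg.reflectionSubgroup (⇑Q) c) ⧸ Subgroup.center ↥(Cfsg.reflectionSubgroup (⇑Q) c)) '' RSet Q c)
      (QuotientGroup.mk g)) :
    (∀ x, act g (act g x) = -x) ∧ ∀ x, B Q x (act g x) = 0 := by
  have hmove : ∀ v, Q v = c → ¬ PM (act g v) v ∧ B Q v (act g v) = 0 := by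
    intro v hv
    obtain ⟨r, hr, hrv⟩ := rset_of_vec hc hv
    obtain ⟨h1, h2⟩ := hg.2 _ ⟨r, hr, rfl⟩
    rw [← QuotientGroup.mk_inv, ← QuotientGroup.mk_mul, ← QuotientGroup.mk_mul] at h1 h2
    have hgr : IsRefl Q (g * r * g⁻¹).1 (act g v) := hrv.conj
    have hne : ¬ PM (act g v) v := fun e => h1 (congrArg QuotientGroup.mk
      (Subtype.ext ((refl_of_pm hgr e.symm).unique hrv)))
    have hgv : Q (act g v) = c := (act_Q g v).trans hv
    have hgR : g * r * g⁻¹ ∈ RSet Q c := ⟨act g v, hgv, (isRefl_iff hgr.1).mp hgr⟩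
    refine ⟨hne, ((refl_commute_iff hc hv hgv hrv hgr).mp
      (rset_commute_of_mk hQ hn hc hr hgR h2)).resolve_right fun e => hne e.symm⟩
  have hz : g * g ∈ Subgroup.center ↥(Cfsg.reflectionSubgroup (⇑Q) c) := (QuotientGroup.eq_one_iff _).mp hg.1
  obtain ⟨s, hs, hgs⟩ := central_sign hQ hn hc hz
  simp only [act_mul] at hgs
  rcases hs with rfl | rfl
  · exfalso
    simp only [one_smul] at hgs
    obtain ⟨v, -, hv⟩ := exists_orth_norm hQ (k := 0) (by omega) ![] (fun i => i.elim0) (fun i => i.elim0) hc
    have hgv : Q (act g v) = c := (act_Q g v).trans hv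
    obtain ⟨-, hv0⟩ := hmove v hv
    obtain ⟨z, hzp, hzc⟩ := exists_orth_norm hQ (k := 2) (by omega) ![v, act g v]
      (fun i => by fin_cases i <;> simp [hv, hgv, hc])
      (fun i j hij => by
        fin_cases i <;> fin_cases j <;> first
          | exact absurd rfl hij
          | exact hv0
          | exact (B_symm Q _ _).trans hv0) hc
    have hgz : Q (act g z) = c := (act_Q g z).trans hzc
    obtain ⟨-, hz0⟩ := hmove z hzc
    have h1 : B Q v z = 0 := hzp 0
    have h2 : B Q (act g v) z = 0 := hzp 1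
    have h3 : B Q v (act g z) = 0 := by rw [← act_B g, hgs]; exact h2
    have h4 : B Q (act g v) (act g z) = 0 := by rw [act_B]; exact h1
    set p := v + act g v + (z + act g z) with hp
    have hpc : Q p = c := by
      rw [hp, Q_add, Q_add, Q_add, hv, hgv, hv0, hzc, hgz, hz0, B_add_l, B_add_r, B_add_r, h1, h2, h3, h4]
      linear_combination c * three_zero
    refine (hmove p hpc).1 (Or.inl ?_)
    rw [hp, act_add, act_add, act_add, hgs, hgs]
    abel
  · have hsq : ∀ x, act g (act g x) = -x := fun x => by rw [hgs, neg_one_smul]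
    refine ⟨hsq, fun x => ?_⟩
    have h := act_B g x (act g x)
    rw [hsq, B_neg_r, B_symm] at h
    exact (by decide : ∀ t : K, -t = t → t = 0) _ h

/-- A frame adapted to a map squaring to minus one. -/
theorem exists_adapted {g : ↥(Cfsg.reflectionSubgroup (⇑Q) c)} (hsq : ∀ x, act g (act g x) = -x)
    (hskew : ∀ x, B Q x (act g x) = 0) :
    ∃ l, n = 2 * l ∧ ∃ f : Fin l → V n, (∀ i, Q (f i) = c) ∧
      ∀ i j, i ≠ j → B Q (f i) (f j) = 0 ∧ B Q (f i) (act g (f j)) = 0 := by
  classical
  let pairs : ∀ {k : ℕ}, (Fin k → V n) → Fin k × Bool → V n := fun f p => if p.2 then act g (f p.1) else f p.1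
  have hpairs : ∀ {k : ℕ} (f : Fin k → V n), (∀ i, Q (f i) = c) →
      (∀ i j, i ≠ j → B Q (f i) (f j) = 0 ∧ B Q (f i) (act g (f j)) = 0) →
      (∀ p, Q (pairs f p) ≠ 0) ∧ ∀ p q, p ≠ q → B Q (pairs f p) (pairs f q) = 0 := by
    intro k f hf ho
    refine ⟨fun p => ?_, fun p q hpq => ?_⟩
    · obtain ⟨i, b⟩ := p
      cases b
      · simpa [pairs, hf] using hc
      · simpa [pairs, act_Q, hf] using hc
    · obtain ⟨i, a⟩ := p
      obtain ⟨j, b⟩ := q
      by_cases hij : i = j
      · subst hij
        cases a <;> cases b <;> first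
          | exact absurd rfl hpq
          | (simp only [pairs]; exact hskew _)
          | (simp only [pairs]; rw [B_symm]; exact hskew _)
      · obtain ⟨h1, h2⟩ := ho i j hij
        obtain ⟨-, h3⟩ := ho j i (Ne.symm hij)
        cases a <;> cases b <;> simp only [pairs]
        · exact h1
        · exact h2
        · rw [B_symm]; exact h3
        · show B Q (act g (f i)) (act g (f j)) = 0
          rw [act_B]; exact h1
  have main : ∀ k, 2 * k ≤ n → ∃ f : Fin k → V n, (∀ i, Q (f i) = c) ∧
      ∀ i j, i ≠ j → B Q (f i) (f j) = 0 ∧ B Q (f i) (act g (f j)) = 0 := by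
    intro k
    induction k with
    | zero => exact fun _ => ⟨Fin.elim0, fun i => i.elim0, fun i => i.elim0⟩
    | succ k ih =>
      intro hk
      obtain ⟨f, hf, ho⟩ := ih (by omega)
      obtain ⟨h1, h2⟩ := hpairs f hf ho
      let eq : Fin (2 * k) ≃ Fin k × Bool := (finCongr (Nat.mul_comm 2 k)).trans
        (finProdFinEquiv.symm.trans ((Equiv.refl _).prodCongr finTwoEquiv))
      obtain ⟨z, hz, hzc⟩ := exists_orth_norm hQ (k := 2 * k) (by omega) (fun i => pairs f (eq i))
        (fun i => h1 _) (fun i j hij => h2 _ _ fun e => hij (eq.injective e)) hc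
      have hzp : ∀ p, B Q (pairs f p) z = 0 := fun p => by
        have := hz (eq.symm p)
        rwa [eq.apply_symm_apply] at this
      have za : ∀ i, B Q (f i) z = 0 := fun i => by simpa [pairs] using hzp (i, false)
      have zb : ∀ i, B Q (act g (f i)) z = 0 := fun i => by simpa [pairs] using hzp (i, true)
      refine ⟨Fin.snoc f z, fun i => ?_, fun i j hij => ?_⟩
      · refine Fin.lastCases ?_ (fun i => ?_) i <;> simp [hzc, hf]
      · revert hij
        refine Fin.lastCases ?_ (fun i => ?_) i <;> refine Fin.lastCases ?_ (fun j => ?_) j <;> intro hij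
        · exact absurd rfl hij
        · simp only [Fin.snoc_last, Fin.snoc_castSucc]
          exact ⟨by rw [B_symm]; exact za j, by rw [B_symm]; exact zb j⟩
        · simp only [Fin.snoc_last, Fin.snoc_castSucc]
          refine ⟨za i, ?_⟩
          rw [← act_B g, hsq, B_neg_r, zb i, neg_zero]
        · simp only [Fin.snoc_castSucc]
          exact ho i j fun e => hij (by rw [e])
  obtain ⟨f, hf, ho⟩ := main (n / 2) (by omega)
  refine ⟨n / 2, ?_, f, hf, ho⟩
  by_contra hodd
  obtain ⟨h1, h2⟩ := hpairs f hf ho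
  let eq : Fin (2 * (n / 2)) ≃ Fin (n / 2) × Bool := (finCongr (Nat.mul_comm 2 (n / 2))).trans
    (finProdFinEquiv.symm.trans ((Equiv.refl _).prodCongr finTwoEquiv))
  obtain ⟨z, hz, hz0⟩ := exists_orth hQ (k := 2 * (n / 2)) (by omega) (fun i => pairs f (eq i))
    (fun i => h1 _) (fun i j hij => h2 _ _ fun e => hij (eq.injective e))
  have hzp : ∀ p, B Q (pairs f p) z = 0 := fun p => by
    have := hz (eq.symm p)
    rwa [eq.apply_symm_apply] at this
  have za : ∀ i, B Q (f i) z = 0 := fun i => by simpa [pairs] using hzp (i, false)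
  have zb : ∀ i, B Q (act g (f i)) z = 0 := fun i => by simpa [pairs] using hzp (i, true)
  have hzg : ∀ p, B Q (pairs f p) (act g z) = 0 := by
    rintro ⟨i, b⟩
    cases b
    · show B Q (f i) (act g z) = 0
      rw [← act_B g, hsq, B_neg_r, zb i, neg_zero]
    · show B Q (act g (f i)) (act g z) = 0
      rw [act_B]; exact za i
  have := ortho_card_le (Q := Q) (Sum.elim (pairs f) ![z, act g z])
    (fun i => by
      rcases i with p | i
      · exact h1 p
      · fin_cases i
        · exact hz0
        · simpa [act_Q] using hz0)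
    (fun i j hij => by
      rcases i with p | i <;> rcases j with q | j
      · exact h2 p q fun e => hij (by rw [e])
      · fin_cases j
        · exact hzp p
        · exact hzg p
      · fin_cases i
        · exact (B_symm Q _ _).trans (hzp q)
        · exact (B_symm Q _ _).trans (hzg q)
      · fin_cases i <;> fin_cases j <;> first
          | exact absurd rfl hij
          | exact hskew z
          | exact (B_symm Q _ _).trans (hskew z))
  simp at this
  omega

end Nondeg

end CfsgFischer.Refl
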