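/-
Maximal commuting sets of reflections as orthogonal frames, and the conjugacy of all movers in dimension eight.
-/
import Cfsg.Agent.Lib.Fischer.Triality.ReflMover
import Cfsg.Agent.Lib.ThreeTrans.Elementary
import Cfsg.Agent.Lib.ThreeTrans.Fischer

set_option autoImplicit false
set_option linter.unusedSectionVars false

namespace CfsgFischer.Refl

open Cfsg CfsgThreeTrans QuadraticMap CfsgReflClass Matrix CfsgFischer.Triality

universe u

theorem width_le {G : Type u} [Group G] [Finite G] {D : Set G} (k : ℕ)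
    (h : ∀ E : Set G, E ⊆ D → (∀ a ∈ E, ∀ b ∈ E, Commute a b) → E.ncard ≤ k) : commutingWidth D ≤ k :=
  csSup_le ⟨0, ∅, Set.empty_subset _, Set.finite_empty, by simp, Set.ncard_empty G⟩
    (by rintro n ⟨E, hE, -, hc, rfl⟩; exact h E hE hc)

theorem le_width {G : Type u} [Group G] [Finite G] {D E : Set G} (hE : E ⊆ D)
    (hc : ∀ a ∈ E, ∀ b ∈ E, Commute a b) : E.ncard ≤ commutingWidth D :=
  le_csSup ⟨Nat.card G, by rintro n ⟨E, -, -, -, rfl⟩; exact Set.ncard_le_card _⟩ ⟨E, hE, Set.toFinite _, hc, rfl⟩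

/-- Commuting sets of the largest size are conjugate. -/
theorem width_conj {G : Type u} [Group G] [Finite G] {D E E' : Set G} (hD : IsThreeTranspositionClass D)
    (hE : E ⊆ D) (hc : ∀ a ∈ E, ∀ b ∈ E, Commute a b) (hn : E.ncard = commutingWidth D)
    (hE' : E' ⊆ D) (hc' : ∀ a ∈ E', ∀ b ∈ E', Commute a b) (hn' : E'.ncard = commutingWidth D) :
    ∃ g : G, (fun x => g * x * g⁻¹) '' E = E' := by
  have key : ∀ F : Set G, F ⊆ D → (∀ a ∈ F, ∀ b ∈ F, Commute a b) → F.ncard = commutingWidth D →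
      ∃ T : Sylow 2 G, {d : G | d ∈ D ∧ d ∈ T} = F := by
    intro F hF hFc hFn
    haveI : Fact (Nat.Prime 2) := ⟨Nat.prime_two⟩
    obtain ⟨T₀, hT₀⟩ := exists_sylow_above hD (H := (⊤ : Subgroup G)) hF hFc fun x _ => Subgroup.mem_top x
    obtain ⟨T, hT⟩ := ((T₀.isPGroup').map (Subgroup.subtype ⊤)).exists_le_sylow
    refine ⟨T, (Set.eq_of_subset_of_ncard_le (t := {d : G | d ∈ D ∧ d ∈ T}) (fun a ha => ⟨hF ha, hT ⟨⟨a, Subgroup.mem_top a⟩, hT₀ a ha, rfl⟩⟩) ?_
      (Set.toFinite _)).symm⟩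
    rw [(sylow_width (cls_group hD) T).2, hFn]
  obtain ⟨T, hT⟩ := key E hE hc hn
  obtain ⟨T', hT'⟩ := key E' hE' hc' hn'
  haveI : Fact (Nat.Prime 2) := ⟨Nat.prime_two⟩
  obtain ⟨g, hg⟩ := MulAction.exists_smul_eq G T T'
  refine ⟨g, Set.eq_of_subset_of_ncard_le ?_ ?_ (Set.toFinite _)⟩
  · rintro _ ⟨x, hx, rfl⟩
    rw [← hT] at hx
    rw [← hT']
    refine ⟨cls_conj hD g hx.1, ?_⟩
    show g * x * g⁻¹ ∈ (T' : Subgroup G)
    rw [← hg, Sylow.coe_subgroup_smul]
    exact ⟨x, hx.2, rfl⟩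
  · rw [Set.ncard_image_of_injective _ (cj_injective g), hn, hn']

variable {n : ℕ} {Q : QuadraticForm K (V n)} {c : K}

/-- The images of the reflections modulo the centre. -/
abbrev PR (Q : QuadraticForm K (V n)) (c : K) :
    Set (↥(Cfsg.reflectionSubgroup (⇑Q) c) ⧸ Subgroup.center ↥(Cfsg.reflectionSubgroup (⇑Q) c)) :=
  (QuotientGroup.mk : ↥(Cfsg.reflectionSubgroup (⇑Q) c) → _) '' RSet Q c

/-- A member attached to a vector of norm `c`. -/
def Att (p : ↥(Cfsg.reflectionSubgroup (⇑Q) c) ⧸ Subgroup.center ↥(Cfsg.reflectionSubgroup (⇑Q) c)) (v : V n) :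
    Prop :=
  ∃ r ∈ RSet Q c, IsRefl Q r.1 v ∧ QuotientGroup.mk r = p

variable (hQ : (polarBilin Q).Nondegenerate) (hn : 5 ≤ n) (hc : c ≠ 0)
include hQ hn hc

theorem pr_class : IsThreeTranspositionClass (PR Q c) :=
  map_class (three_class_three hQ hn hc) (QuotientGroup.mk' (Subgroup.center ↥(Cfsg.reflectionSubgroup (⇑Q) c)))
    (QuotientGroup.mk'_surjective _) fun r hr h1 => by
      obtain ⟨v, hv, hrv⟩ := rset_vec hc hr
      obtain ⟨s, -, hs⟩ := central_sign hQ hn hc ((QuotientGroup.eq_one_iff r).mp h1)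
      obtain ⟨z, hz, hzc⟩ := exists_orth_norm hQ (k := 1) (by omega) ![v]
        (fun i => by fin_cases i; simp [hv, hc]) (fun i j hij => absurd (Subsingleton.elim i j) hij) hc
      have hvz : B Q v z = 0 := hz 0
      have e1 := hs z
      rw [refl_fix hc hv hrv, sig_fix hvz] at e1
      have e2 := hs v
      rw [refl_fix hc hv hrv, sig, B_self, hv, mul_neg, neg_neg, sq_one c hc] at e2
      have h3 : B Q z z = s * B Q z z := by rw [← B_smul_l, ← e1]
      have h4 : B Q (v + (1 : K) • v) v = s * B Q v v := by rw [e2, B_smul_l]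
      rw [B_self, hzc] at h3
      rw [B_add_l, B_smul_l, B_self, hv] at h4
      exact hc ((by decide : ∀ c s : K, -c = s * -c → -c + 1 * -c = s * -c → c = 0) c s h3 h4)

theorem att_commute {p q : ↥(Cfsg.reflectionSubgroup (⇑Q) c) ⧸ Subgroup.center ↥(Cfsg.reflectionSubgroup (⇑Q) c)}
    {v w : V n} (hv : Q v = c) (hw : Q w = c) (hp : Att p v) (hq : Att q w) :
    Commute p q ↔ B Q v w = 0 ∨ PM v w := by
  obtain ⟨r, hr, hrv, rfl⟩ := hp
  obtain ⟨s, hs, hsw, rfl⟩ := hq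
  refine ⟨fun h => (refl_commute_iff hc hv hw hrv hsw).mp (rset_commute_of_mk hQ hn hc hr hs h), fun h => ?_⟩
  exact ((refl_commute_iff hc hv hw hrv hsw).mpr h).map (QuotientGroup.mk' _)

theorem att_eq {p q : ↥(Cfsg.reflectionSubgroup (⇑Q) c) ⧸ Subgroup.center ↥(Cfsg.reflectionSubgroup (⇑Q) c)}
    {v w : V n} (hv : Q v = c) (hw : Q w = c) (hp : Att p v) (hq : Att q w) : p = q ↔ PM v w := by
  obtain ⟨r, hr, hrv, rfl⟩ := hp
  obtain ⟨s, hs, hsw, rfl⟩ := hq
  refine ⟨fun h => ?_, fun h => ?_⟩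
  · rw [rset_mk_inj hQ hn hc hr hs h] at hrv
    exact pm_of_refl hc hw hv hsw hrv
  · rw [show r = s from Subtype.ext ((refl_of_pm hrv h.symm).unique hsw)]

theorem att_exists {v : V n} (hv : Q v = c) : ∃ p ∈ PR Q c, Att p v := by
  obtain ⟨r, hr, hrv⟩ := rset_of_vec hc hv
  exact ⟨_, ⟨r, hr, rfl⟩, r, hr, hrv, rfl⟩

theorem att_of_mem {p : ↥(Cfsg.reflectionSubgroup (⇑Q) c) ⧸ Subgroup.center ↥(Cfsg.reflectionSubgroup (⇑Q) c)}
    (hp : p ∈ PR Q c) : ∃ v, Q v = c ∧ Att p v := by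
  obtain ⟨r, hr, rfl⟩ := hp
  obtain ⟨v, hv, hrv⟩ := rset_vec hc hr
  exact ⟨v, hv, r, hr, hrv, rfl⟩

theorem att_conj {p : ↥(Cfsg.reflectionSubgroup (⇑Q) c) ⧸ Subgroup.center ↥(Cfsg.reflectionSubgroup (⇑Q) c)}
    {v : V n} (hv : Q v = c) (hp : Att p v) (g : ↥(Cfsg.reflectionSubgroup (⇑Q) c)) :
    Att (QuotientGroup.mk g * p * (QuotientGroup.mk g)⁻¹) (act g v) := by
  obtain ⟨r, hr, hrv, rfl⟩ := hp
  have hgr : IsRefl Q (g * r * g⁻¹).1 (act g v) := hrv.conj
  refine ⟨g * r * g⁻¹, ⟨act g v, (act_Q g v).trans hv, (isRefl_iff hgr.1).mp hgr⟩, hgr, ?_⟩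
  rw [QuotientGroup.mk_mul, QuotientGroup.mk_mul, QuotientGroup.mk_inv]

theorem pr_width_le : commutingWidth (PR Q c) ≤ n := by
  refine width_le n fun E hE hEc => ?_
  choose v hv hva using fun p : E => att_of_mem hQ hn hc (hE p.2)
  rw [← Nat.card_coe_set_eq]
  refine ortho_card_le v (fun i => by rw [hv]; exact hc) fun i j hij => ?_
  exact ((att_commute hQ hn hc (hv i) (hv j) (hva i) (hva j)).mp (hEc _ i.2 _ j.2)).resolve_right
    fun h => hij (Subtype.ext ((att_eq hQ hn hc (hv i) (hv j) (hva i) (hva j)).mpr h))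

/-- The members attached to an orthogonal family. -/
theorem frame_set {ι : Type*} [Finite ι] (e : ι → V n) (he : ∀ i, Q (e i) = c)
    (ho : ∀ i j, i ≠ j → B Q (e i) (e j) = 0) :
    ∃ p : ι → _, Function.Injective p ∧ (∀ i, p i ∈ PR Q c ∧ Att (p i) (e i)) ∧
      ∀ a ∈ Set.range p, ∀ b ∈ Set.range p, Commute a b := by
  choose p hp hpa using fun i => att_exists hQ hn hc (he i)
  refine ⟨p, fun i j h => ?_, fun i => ⟨hp i, hpa i⟩, ?_⟩
  · by_contra hij
    have h0 := ((att_eq hQ hn hc (he i) (he j) (hpa i) (hpa j)).mp h).B_zero (e j) |>.mp (ho i j hij)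
    rw [B_self, he, neg_eq_zero] at h0
    exact hc h0
  · rintro _ ⟨i, rfl⟩ _ ⟨j, rfl⟩
    by_cases hij : i = j
    · rw [hij]
    · exact (att_commute hQ hn hc (he i) (he j) (hpa i) (hpa j)).mpr (Or.inl (ho i j hij))

theorem le_pr_width {ι : Type*} [Finite ι] (e : ι → V n) (he : ∀ i, Q (e i) = c)
    (ho : ∀ i j, i ≠ j → B Q (e i) (e j) = 0) : Nat.card ι ≤ commutingWidth (PR Q c) := by
  obtain ⟨p, hp, hpm, hpc⟩ := frame_set hQ hn hc e he ho
  have := le_width (D := PR Q c) (E := Set.range p) (by rintro _ ⟨i, rfl⟩; exact (hpm i).1) hpc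
  rwa [Set.ncard_range_of_injective hp] at this

section Eight

/-- A permutation of a frame induced up to signs by the group. -/
def Real {ι : Type*} (e : ι → V n) (π : Equiv.Perm ι) : Prop :=
  ∃ r : ↥(Cfsg.reflectionSubgroup (⇑Q) c), ∀ i, PM (act r (e i)) (e (π i))

omit hQ hn hc in
theorem Real.mul {ι : Type*} {e : ι → V n} {π σ : Equiv.Perm ι} (h : Real (Q := Q) (c := c) e π)
    (h' : Real (Q := Q) (c := c) e σ) : Real (Q := Q) (c := c) e (π * σ) := by
  obtain ⟨r, hr⟩ := h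
  obtain ⟨s, hs⟩ := h'
  exact ⟨r * s, fun i => by rw [act_mul]; exact (act_pm r (hs i)).trans (hr (σ i))⟩

variable {ι : Type*} [Fintype ι] [DecidableEq ι] (e : ι → V n) (he : ∀ i, Q (e i) = c)
  (ho : ∀ i j, i ≠ j → B Q (e i) (e j) = 0)
include he ho

theorem double_real {a b p q : ι} (hab : a ≠ b) (hpq : p ≠ q) (hap : a ≠ p) (haq : a ≠ q) (hbp : b ≠ p)
    (hbq : b ≠ q) : Real (Q := Q) (c := c) e (Equiv.swap a b * Equiv.swap p q) := by
  set u₁ := e a + e b + (e p + e q) with hu₁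
  set u₂ := e a + e b - (e p + e q) with hu₂
  have hs : ∀ i, B Q (e i) (e i) = -c := fun i => by rw [B_self, he]
  have o : ∀ {i j}, i ≠ j → B Q (e i) (e j) = 0 := fun {i j} h => ho i j h
  have hQ1 : Q u₁ = c := by
    rw [hu₁, Q_add, Q_add, Q_add, he, he, he, he, B_add_l, B_add_r, B_add_r, o hab, o hpq, o hap, o haq, o hbp,
      o hbq]
    linear_combination c * three_zero
  have hQ2 : Q u₂ = c := by
    rw [hu₂, Q_sub, Q_add, Q_add, he, he, he, he, B_add_l, B_add_r, B_add_r, o hab, o hpq, o hap, o haq, o hbp,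
      o hbq]
    linear_combination c * three_zero
  have b1 : ∀ i, B Q u₁ (e i) = B Q (e a) (e i) + B Q (e b) (e i) + (B Q (e p) (e i) + B Q (e q) (e i)) :=
    fun i => by rw [hu₁, B_add_l, B_add_l, B_add_l]
  have b2 : ∀ i, B Q u₂ (e i) = B Q (e a) (e i) + B Q (e b) (e i) - (B Q (e p) (e i) + B Q (e q) (e i)) :=
    fun i => by rw [hu₂, B_sub_l, B_add_l, B_add_l]
  have h1a : B Q u₁ (e a) = -c := by rw [b1, hs, o hab.symm, o hap.symm, o haq.symm]; ring
  have h1b : B Q u₁ (e b) = -c := by rw [b1, hs, o hab, o hbp.symm, o hbq.symm]; ring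
  have h1p : B Q u₁ (e p) = -c := by rw [b1, hs, o hap, o hbp, o hpq.symm]; ring
  have h1q : B Q u₁ (e q) = -c := by rw [b1, hs, o haq, o hbq, o hpq]; ring
  have h2a : B Q u₂ (e a) = -c := by rw [b2, hs, o hab.symm, o hap.symm, o haq.symm]; ring
  have h2b : B Q u₂ (e b) = -c := by rw [b2, hs, o hab, o hbp.symm, o hbq.symm]; ring
  have h2p : B Q u₂ (e p) = c := by rw [b2, hs, o hap, o hbp, o hpq.symm]; ring
  have h2q : B Q u₂ (e q) = c := by rw [b2, hs, o haq, o hbq, o hpq]; ring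
  have h12 : B Q u₁ u₂ = 0 := by
    rw [hu₂, B_sub_r, B_add_r, B_add_r, h1a, h1b, h1p, h1q, sub_self]
  obtain ⟨r₁, -, hr₁⟩ := rset_of_vec hc hQ1
  obtain ⟨r₂, -, hr₂⟩ := rset_of_vec hc hQ2
  have hplus : ∀ i, B Q u₁ (e i) = -c → B Q u₂ (e i) = -c → act (r₁ * r₂) (e i) = e i + u₂ + u₁ := by
    intro i e1 e2
    rw [act_mul, refl_fix hc hQ2 hr₂, refl_fix hc hQ1 hr₁]
    simp only [sig, e2, B_add_r, B_smul_r, h12, e1, mul_zero, add_zero, mul_neg, neg_neg, sq_one c hc, one_smul]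
  have hminus : ∀ i, B Q u₁ (e i) = -c → B Q u₂ (e i) = c → act (r₁ * r₂) (e i) = e i - u₂ + u₁ := by
    intro i e1 e2
    rw [act_mul, refl_fix hc hQ2 hr₂, refl_fix hc hQ1 hr₁]
    simp only [sig, e2, B_add_r, B_sub_r, B_smul_r, h12, e1, mul_zero, add_zero, sub_zero, mul_neg, neg_neg,
      sq_one c hc, one_smul, neg_one_smul, ← sub_eq_add_neg]
  refine ⟨r₁ * r₂, fun i => ?_⟩
  rw [Equiv.Perm.mul_apply]
  have h30 : (3 : K) = 0 := rfl
  by_cases hia : i = a
  · subst hia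
    rw [Equiv.swap_apply_of_ne_of_ne hap haq, Equiv.swap_apply_left, hplus i h1a h2a]
    refine Or.inr (eq_neg_of_add_eq_zero_left ?_)
    rw [hu₁, hu₂, show e i + (e i + e b - (e p + e q)) + (e i + e b + (e p + e q)) + e b = (3 : K) • (e i + e b) by
      module, h30, zero_smul]
  by_cases hib : i = b
  · subst hib
    rw [Equiv.swap_apply_of_ne_of_ne hbp hbq, Equiv.swap_apply_right, hplus i h1b h2b]
    refine Or.inr (eq_neg_of_add_eq_zero_left ?_)
    rw [hu₁, hu₂, show e i + (e a + e i - (e p + e q)) + (e a + e i + (e p + e q)) + e a = (3 : K) • (e i + e a) by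
      module, h30, zero_smul]
  by_cases hip : i = p
  · subst hip
    rw [Equiv.swap_apply_left, Equiv.swap_apply_of_ne_of_ne haq.symm hbq.symm, hminus i h1p h2p]
    refine Or.inr (eq_neg_of_add_eq_zero_left ?_)
    rw [hu₁, hu₂, show e i - (e a + e b - (e i + e q)) + (e a + e b + (e i + e q)) + e q = (3 : K) • (e i + e q) by
      module, h30, zero_smul]
  by_cases hiq : i = q
  · subst hiq
    rw [Equiv.swap_apply_right, Equiv.swap_apply_of_ne_of_ne hap.symm hbp.symm, hminus i h1q h2q]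
    refine Or.inr (eq_neg_of_add_eq_zero_left ?_)
    rw [hu₁, hu₂, show e i - (e a + e b - (e p + e i)) + (e a + e b + (e p + e i)) + e p = (3 : K) • (e i + e p) by
      module, h30, zero_smul]
  rw [Equiv.swap_apply_of_ne_of_ne hip hiq, Equiv.swap_apply_of_ne_of_ne hia hib]
  have e1 : B Q u₁ (e i) = 0 := by
    rw [b1, o (Ne.symm hia), o (Ne.symm hib), o (Ne.symm hip), o (Ne.symm hiq)]; ring
  have e2 : B Q u₂ (e i) = 0 := by
    rw [b2, o (Ne.symm hia), o (Ne.symm hib), o (Ne.symm hip), o (Ne.symm hiq)]; ring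
  rw [act_mul, refl_fix hc hQ2 hr₂, refl_fix hc hQ1 hr₁, sig_fix e2, sig_fix e1]
  exact PM.rfl' _

theorem swaps_real (hι : 6 ≤ Fintype.card ι) {s t : Equiv.Perm ι} (hs : s.IsSwap) (ht : t.IsSwap) :
    Real (Q := Q) (c := c) e (s * t) := by
  obtain ⟨a, b, hab, rfl⟩ := hs
  obtain ⟨p, q, hpq, rfl⟩ := ht
  have h2 : 1 < (({a, b, p, q} : Finset ι)ᶜ).card := by
    rw [Finset.card_compl]
    have : ({a, b, p, q} : Finset ι).card ≤ 4 := Finset.card_le_four
    omega
  obtain ⟨x, hx, y, hy, hxy⟩ := Finset.one_lt_card.mp h2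
  simp only [Finset.mem_compl, Finset.mem_insert, Finset.mem_singleton, not_or] at hx hy
  have e1 := double_real hQ hn hc e he ho hab hxy (Ne.symm hx.1) (Ne.symm hy.1) (Ne.symm hx.2.1) (Ne.symm hy.2.1)
  have e2 := double_real hQ hn hc e he ho hxy hpq hx.2.2.1 hx.2.2.2 hy.2.2.1 hy.2.2.2
  have := e1.mul e2
  rwa [mul_assoc, ← mul_assoc (Equiv.swap x y), Equiv.swap_mul_self, one_mul] at this

theorem even_real (hι : 6 ≤ Fintype.card ι) {π : Equiv.Perm ι} (hπ : Equiv.Perm.sign π = 1) :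
    Real (Q := Q) (c := c) e π := by
  have key : ∀ (k : ℕ) (l : List (Equiv.Perm ι)), l.length = 2 * k → (∀ g ∈ l, g.IsSwap) →
      Real (Q := Q) (c := c) e l.prod := by
    intro k
    induction k with
    | zero =>
      intro l hl _
      rw [List.length_eq_zero_iff.mp hl, List.prod_nil]
      exact ⟨1, fun i => by rw [act_one]; exact PM.rfl' _⟩
    | succ k ih =>
      intro l hl hs
      match l, hl, hs with
      | s :: t :: rest, hl, hs =>
        rw [List.prod_cons, List.prod_cons, ← mul_assoc]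
        exact (swaps_real hQ hn hc e he ho hι (hs s (by simp)) (hs t (by simp))).mul
          (ih rest (by simp at hl; omega) fun g hg => hs g (by simp [hg]))
      | [_], hl, _ => simp at hl; omega
      | [], hl, _ => simp at hl
  obtain ⟨l, hl, hls⟩ := (Equiv.Perm.truncSwapFactors π).out
  rw [← hl, Equiv.Perm.sign_prod_list_swap hls, neg_one_pow_eq_one_iff_even (by decide : (-1 : ℤˣ) ≠ 1)] at hπ
  obtain ⟨k, hk⟩ := hπ
  rw [← hl]
  exact key k l (by omega) hls

theorem flips (S : Finset ι) : ∃ r : ↥(Cfsg.reflectionSubgroup (⇑Q) c),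
    ∀ i, act r (e i) = if i ∈ S then -e i else e i := by
  induction S using Finset.induction_on with
  | empty => exact ⟨1, fun i => by rw [act_one, if_neg (Finset.notMem_empty i)]⟩
  | insert j S hj ih =>
    obtain ⟨r, hr⟩ := ih
    obtain ⟨s, -, hs⟩ := rset_of_vec hc (he j)
    refine ⟨s * r, fun i => ?_⟩
    rw [act_mul, hr]
    by_cases hij : i = j
    · subst hij
      rw [if_neg hj, if_pos (Finset.mem_insert_self i S), refl_fix hc (he i) hs, sig, B_self, he, mul_neg, neg_neg,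
        sq_one c hc, one_smul]
      refine eq_neg_of_add_eq_zero_left ?_
      rw [show e i + e i + e i = (3 : K) • e i by module, show (3 : K) = 0 from rfl, zero_smul]
    · have hB : B Q (e j) (e i) = 0 := ho j i (Ne.symm hij)
      by_cases hiS : i ∈ S
      · rw [if_pos hiS, if_pos (Finset.mem_insert_of_mem hiS), refl_fix hc (he j) hs, sig_neg, sig_fix hB]
      · rw [if_neg hiS, if_neg (by simp [hij, hiS]), refl_fix hc (he j) hs, sig_fix hB]

end Eight

end CfsgFischer.Refl
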