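/-
In dimension eight, with an orthogonal frame of one norm, the derived group of the projective reflection group is the
simple orthogonal group of plus type.
-/
import Cfsg.Agent.Lib.Fischer.Triality.ReflFrames
import Cfsg.Agent.Lib.Fischer.Models.ReflSimple
import Cfsg.Agent.Lib.OmegaSimple

set_option autoImplicit false
set_option maxHeartbeats 400000
set_option linter.unusedSectionVars false

namespace CfsgFischer.Refl

open Cfsg QuadraticMap CfsgReflClass Matrix

universe u

theorem commutator_map_equiv {A B : Type*} [Group A] [Group B] (e : A ≃* B) :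
    (commutator A).map e.toMonoidHom = commutator B := by
  rw [commutator_def, Subgroup.map_commutator, Subgroup.map_top_of_surjective e.toMonoidHom e.surjective,
    ← commutator_def]

theorem commutator_congr {A B : Type*} [Group A] [Group B] (e : A ≃* B) :
    Nonempty (↥(commutator A) ≃* ↥(commutator B)) :=
  ⟨(e.subgroupMap _).trans (MulEquiv.subgroupCongr (commutator_map_equiv e))⟩

variable {n : ℕ} {Q : QuadraticForm K (V n)} {c : K}

theorem similar_plus (h8 : n = 8) (hc : c ≠ 0) (e : Fin 4 × Bool → V n) (he : ∀ i, Q (e i) = c)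
    (ho : ∀ i j, i ≠ j → B Q (e i) (e j) = 0) :
    ∃ L : (Fin 4 ⊕ Fin 4 → K) ≃ₗ[K] V n, ∀ v, Q (L v) = c * Cfsg.quadFormPlus 4 K v := by
  classical
  let t : (Fin 4 ⊕ Fin 4 → K) → Fin 4 → K := fun v i => v (.inl i) - v (.inr i)
  let x : (Fin 4 ⊕ Fin 4 → K) → Fin 4 × Bool → K := fun v p =>
    if p.2 then ![t v 0 + t v 1, t v 0 - t v 1, t v 2 + t v 3, t v 2 - t v 3] p.1 else v (.inl p.1) + v (.inr p.1)
  let L₀ : (Fin 4 ⊕ Fin 4 → K) →ₗ[K] V n :=
    { toFun := fun v => ∑ p, x v p • e p
      map_add' := fun v w => by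
        rw [← Finset.sum_add_distrib]
        refine Finset.sum_congr rfl fun p _ => ?_
        rw [← add_smul]
        congr 1
        obtain ⟨i, _ | _⟩ := p <;> fin_cases i <;> simp [x, t] <;> ring
      map_smul' := fun a v => by
        rw [RingHom.id_apply, Finset.smul_sum]
        refine Finset.sum_congr rfl fun p _ => ?_
        rw [smul_smul]
        congr 1
        obtain ⟨i, _ | _⟩ := p <;> fin_cases i <;> simp [x, t] <;> ring }
  have hsum : ∀ (s : Finset (Fin 4 × Bool)) (a : Fin 4 × Bool → K),
      Q (∑ p ∈ s, a p • e p) = c * ∑ p ∈ s, a p * a p := by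
    intro s a
    induction s using Finset.induction_on with
    | empty => simp
    | insert i s hi ih =>
      rw [Finset.sum_insert hi, Finset.sum_insert hi, Q_add, ih, Q_smul, he, B_smul_l]
      have h0 : B Q (e i) (∑ p ∈ s, a p • e p) = 0 := by
        rw [B, ← polarBilin_apply_apply, map_sum]
        refine Finset.sum_eq_zero fun p hp => ?_
        rw [map_smul, polarBilin_apply_apply, show polar (⇑Q) (e i) (e p) = 0 from
          ho i p fun h => hi (h ▸ hp), smul_zero]
      rw [h0, mul_zero, add_zero]
      ring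
  have hQL : ∀ v, Q (L₀ v) = c * Cfsg.quadFormPlus 4 K v := fun v => by
    show Q (∑ p, x v p • e p) = _
    rw [hsum]
    congr 1
    rw [Fintype.sum_prod_type]
    simp only [Fintype.sum_bool, Fin.sum_univ_four, Cfsg.quadFormPlus, x, t]
    simp
    linear_combination (v (.inl 0) * v (.inl 0) + v (.inr 0) * v (.inr 0) + v (.inl 1) * v (.inl 1) +
      v (.inr 1) * v (.inr 1) + v (.inl 2) * v (.inl 2) + v (.inr 2) * v (.inr 2) + v (.inl 3) * v (.inl 3) +
      v (.inr 3) * v (.inr 3) - v (.inl 0) * v (.inr 0) - v (.inl 1) * v (.inr 1) - v (.inl 2) * v (.inr 2) -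
      v (.inl 3) * v (.inr 3)) * three_zero
  have hinj : Function.Injective L₀ := by
    rw [injective_iff_map_eq_zero]
    intro v hv
    have hx := Fintype.linearIndependent_iff.mp (ortho_indep e (fun i => by rw [he]; exact hc) ho) (x v) hv
    have h0 : ∀ i, v (.inl i) + v (.inr i) = 0 := fun i => by simpa [x] using hx (i, false)
    have key : ∀ a b : K, a + b = 0 → a - b = 0 → a = 0 ∧ b = 0 := by decide
    have key2 : ∀ a b : K, a + b = 0 → a - b = 0 → a = 0 := fun a b h h' => (key a b h h').1
    have t0 := hx (0, true)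
    have t1 := hx (1, true)
    have t2 := hx (2, true)
    have t3 := hx (3, true)
    simp [x] at t0 t1 t2 t3
    have ht : ∀ i, t v i = 0 := by
      intro i
      fin_cases i
      exacts [(key _ _ t0 t1).1, (key _ _ t0 t1).2, (key _ _ t2 t3).1, (key _ _ t2 t3).2]
    funext i
    rcases i with i | i
    · exact (key _ _ (h0 i) (ht i)).1
    · exact (key _ _ (h0 i) (ht i)).2
  have hdim : Module.finrank K (Fin 4 ⊕ Fin 4 → K) = Module.finrank K (V n) := by
    simp [h8]
  exact ⟨LinearEquiv.ofBijective L₀ ⟨hinj, (LinearMap.injective_iff_surjective_of_finrank_eq_finrank hdim).mp hinj⟩,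
    hQL⟩

/-- A subgroup of index two in a group with perfect derived group: its derived group modulo the centre. -/
theorem derived_quot {O : Type*} [Group O] (R : Subgroup O) (hidx : R.index = 2)
    (hperf : ⁅commutator O, commutator O⁆ = commutator O)
    (hZ : Subgroup.center ↥(commutator (↥R ⧸ Subgroup.center ↥R)) = ⊥) :
    Nonempty (↥(commutator (↥R ⧸ Subgroup.center ↥R)) ≃* ↥(commutator O) ⧸ Subgroup.center ↥(commutator O)) := by
  haveI hRn : R.Normal := Subgroup.normal_of_index_eq_two hidx
  have hOmR : commutator O ≤ R := by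
    refine Subgroup.Normal.quotient_commutative_iff_commutator_le.mp ?_
    haveI : Fact (Nat.Prime 2) := ⟨Nat.prime_two⟩
    haveI := isCyclic_of_prime_card (α := O ⧸ R) (p := 2) hidx
    exact ⟨⟨fun a b => IsCyclic.commGroup.mul_comm a b⟩⟩
  have heq : (commutator ↥R).map R.subtype = commutator O := by
    rw [Subgroup.map_subtype_commutator]
    refine le_antisymm (Subgroup.commutator_mono le_top le_top) ?_
    rw [← hperf]
    exact Subgroup.commutator_mono hOmR hOmR
  let κ : ↥(commutator ↥R) ≃* ↥(commutator O) :=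
    ((commutator ↥R).equivMapOfInjective R.subtype R.subtype_injective).trans (MulEquiv.subgroupCongr heq)
  let π := QuotientGroup.mk' (Subgroup.center ↥R)
  have hcm : (commutator ↥R).map π = commutator (↥R ⧸ Subgroup.center ↥R) := by
    rw [commutator_def, Subgroup.map_commutator, Subgroup.map_top_of_surjective π (QuotientGroup.mk'_surjective _),
      ← commutator_def]
  let ψ : ↥(commutator ↥R) →* ↥(commutator (↥R ⧸ Subgroup.center ↥R)) :=
    (π.comp (commutator ↥R).subtype).codRestrict _ fun g => hcm.le (Subgroup.mem_map_of_mem π g.2)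
  have hsur : Function.Surjective ψ := fun y => by
    obtain ⟨g, hg, e⟩ := hcm.ge y.2
    exact ⟨⟨g, hg⟩, Subtype.ext e⟩
  have hker : ψ.ker = Subgroup.center ↥(commutator ↥R) := by
    ext z
    refine ⟨fun hz => Subgroup.mem_center_iff.mpr fun g => Subtype.ext ?_, fun hz => ?_⟩
    · have h : z.1 ∈ Subgroup.center ↥R := (QuotientGroup.eq_one_iff z.1).mp (congrArg Subtype.val hz)
      exact Subgroup.mem_center_iff.mp h g.1
    · have hm : ψ z ∈ Subgroup.center ↥(commutator (↥R ⧸ Subgroup.center ↥R)) := by
        refine Subgroup.mem_center_iff.mpr fun y => ?_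
        obtain ⟨g, rfl⟩ := hsur y
        rw [← map_mul, ← map_mul, Subgroup.mem_center_iff.mp hz g]
      rw [hZ, Subgroup.mem_bot] at hm
      exact hm
  have hmapc : (Subgroup.center ↥(commutator ↥R)).map κ.toMonoidHom = Subgroup.center ↥(commutator O) := by
    ext y
    constructor
    · rintro ⟨z, hz, rfl⟩
      refine Subgroup.mem_center_iff.mpr fun g => ?_
      obtain ⟨g, rfl⟩ := κ.surjective g
      show κ g * κ z = κ z * κ g
      rw [← map_mul, ← map_mul, Subgroup.mem_center_iff.mp hz g]
    · intro hy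
      refine ⟨κ.symm y, Subgroup.mem_center_iff.mpr fun g => κ.injective ?_, κ.apply_symm_apply y⟩
      rw [map_mul, map_mul, κ.apply_symm_apply, Subgroup.mem_center_iff.mp hy]
  exact ⟨(QuotientGroup.quotientKerEquivOfSurjective ψ hsur).symm.trans
    ((QuotientGroup.quotientMulEquivOfEq hker).trans (QuotientGroup.congr _ _ κ hmapc))⟩

/-- The derived projective reflection group as the simple orthogonal group of the form. -/
theorem derived_pomega (hQ : (polarBilin Q).Nondegenerate) (hn : 5 ≤ n) (hc : c ≠ 0)
    (hZ : Subgroup.center ↥(commutator (↥(Cfsg.reflectionSubgroup (⇑Q) c) ⧸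
      Subgroup.center ↥(Cfsg.reflectionSubgroup (⇑Q) c))) = ⊥) :
    Nonempty (↥(commutator (↥(Cfsg.reflectionSubgroup (⇑Q) c) ⧸
      Subgroup.center ↥(Cfsg.reflectionSubgroup (⇑Q) c))) ≃* Cfsg.POmega K (⇑Q)) := by
  have hn' : 5 ≤ Module.finrank K (V n) := by
    rw [Module.finrank_fintype_fun_eq_card, Fintype.card_fin]; exact hn
  refine derived_quot (Cfsg.reflectionSubgroup (⇑Q) c) (refl_index hQ hn hc) ?_ hZ
  let iso := CfsgLib.SpinorMatrix.isoEquiv Q
  have hmap : (commutator ↥(Cfsg.isometryGroup K (⇑Q))).map iso.toMonoidHom =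
      Subgroup.closure (CfsgLib.Eichler.Sieg Q) := by
    rw [← CfsgLib.OmegaSimple.commutator_eq Q hQ hn']
    exact commutator_map_equiv iso
  refine Subgroup.map_injective (f := iso.toMonoidHom) iso.injective ?_
  rw [Subgroup.map_commutator, hmap]
  exact CfsgLib.OmegaSimple.perfect Q hQ hn'

end CfsgFischer.Refl
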