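/-
Movers of the transvection class of an orthogonal group over two elements: the displacement squares to zero with
totally singular image of half dimension, and any two movers are conjugate.
-/
import Cfsg.Agent.Lib.Fischer.Triality.Movers
import Cfsg.Agent.Lib.Fischer.StepOrth
import Cfsg.Agent.Lib.FiniteForms.WittBasis

set_option autoImplicit false
set_option linter.unusedSectionVars false

namespace CfsgFischer.Orth

open Cfsg QuadraticMap CfsgReflClass Matrix CfsgFischer.Triality CfsgFischer.FormTwo CfsgLib.FiniteForms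

variable {ι : Type} [Fintype ι] [DecidableEq ι] {Q : QuadraticForm (ZMod 2) (ι → ZMod 2)}

/-- The transvections. -/
abbrev TS (Q : QuadraticForm (ZMod 2) (ι → ZMod 2)) : Set ↥(Cfsg.isometryGroup (ZMod 2) ⇑Q) :=
  {g | (g.1.1 - 1).rank = 1}

/-- The displacement of an element. -/
def disp (g : ↥(Cfsg.isometryGroup (ZMod 2) ⇑Q)) : (ι → ZMod 2) →ₗ[ZMod 2] (ι → ZMod 2) :=
  Matrix.mulVecLin g.1.1 + 1

theorem disp_apply (g : ↥(Cfsg.isometryGroup (ZMod 2) ⇑Q)) (x : ι → ZMod 2) : disp g x = g.1.1 *ᵥ x + x := rfl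

theorem act_eq (g : ↥(Cfsg.isometryGroup (ZMod 2) ⇑Q)) (x : ι → ZMod 2) : g.1.1 *ᵥ x = x + disp g x := by
  rw [disp_apply, add_comm (g.1.1 *ᵥ x), add_cancel]

variable (hQ : (polarBilin Q).Nondegenerate)
include hQ

theorem tt_inj {a b : ι → ZMod 2} (ha : Q a = 1) (hb : Q b = 1) (h : OrthTwo.tt Q a = OrthTwo.tt Q b) : a = b := by
  obtain ⟨y, hy⟩ := (OrthTwo.symp_polar hQ).exists_one ((OrthTwo.quad Q).ne_zero ha)
  have e1 := refl2_apply (OrthTwo.tt_spec ha) y
  have e2 := refl2_apply (OrthTwo.tt_spec hb) y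
  rw [h, e2, show polar (⇑Q) a y = 1 from hy, one_smul, add_right_inj] at e1
  rcases two_cases (polar (⇑Q) b y) with e | e
  · rw [e, zero_smul] at e1; exact absurd e1.symm ((OrthTwo.quad Q).ne_zero ha)
  · rw [e, one_smul] at e1; exact e1.symm

theorem mover_vec {g : ↥(Cfsg.isometryGroup (ZMod 2) ⇑Q)} (hg : IsMover (TS Q) g) {u : ι → ZMod 2}
    (hu : Q u = 1) : g.1.1 *ᵥ u ≠ u ∧ polar (⇑Q) u (g.1.1 *ᵥ u) = 0 := by
  obtain ⟨h1, h2⟩ := hg.2 _ ((OrthTwo.rank_iff hQ _).mpr ⟨u, hu, rfl⟩)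
  set v := g.1.1 *ᵥ u with hv
  have hvq : Q v = 1 := (iso_map Q g u).trans hu
  have e : g * OrthTwo.tt Q u * g⁻¹ = OrthTwo.tt Q v :=
    (OrthTwo.tt_spec hu).conj.unique (OrthTwo.tt_spec hvq)
  rw [e] at h1 h2
  have hne : v ≠ u := fun h => h1 (by rw [h])
  refine ⟨hne, ?_⟩
  by_contra hc
  have e' : OrthTwo.tt Q u * OrthTwo.tt Q v * (OrthTwo.tt Q u)⁻¹ = OrthTwo.tt Q v := by
    rw [h2.eq, mul_inv_cancel_right]
  have hw : IsRefl Q (OrthTwo.tt Q v) ((OrthTwo.tt Q u).1.1 *ᵥ v) := by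
    have := (OrthTwo.tt_spec hvq).conj (g := OrthTwo.tt Q u)
    rwa [e'] at this
  rw [refl2_apply (OrthTwo.tt_spec hu), eq_one hc, one_smul] at hw
  have h3 := tt_inj hQ hvq (eq_one hw.1) (hw.unique (OrthTwo.tt_spec (eq_one hw.1)))
  exact (OrthTwo.quad Q).ne_zero hu (by simpa using h3.symm)

theorem mover_lift (hdim : 8 ≤ Fintype.card ι) {g : ↥(Cfsg.isometryGroup (ZMod 2) ⇑Q)} (hg : IsMover (TS Q) g) :
    (∀ x, disp g (disp g x) = 0) ∧ (∀ x, polar (⇑Q) x (disp g x) = 0) ∧ (∀ x, Q (disp g x) = 0) ∧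
      (∀ x y, polar (⇑Q) x (disp g y) = polar (⇑Q) (disp g x) y) ∧ ∀ x, disp g x = 0 → Q x = 0 := by
  have hB := OrthTwo.symp_polar hQ
  have hq := OrthTwo.quad Q
  have hgg : ∀ x, g.1.1 *ᵥ (g.1.1 *ᵥ x) = x := fun x => by rw [← iso_mul, hg.1, iso_one]
  have hsym : ∀ x y, polar (⇑Q) x (g.1.1 *ᵥ y) = polar (⇑Q) (g.1.1 *ᵥ x) y := fun x y => by
    rw [← polar_map Q g, hgg]
  have hadd : ∀ x y, polar (⇑Q) (x + y) (g.1.1 *ᵥ (x + y)) =
      polar (⇑Q) x (g.1.1 *ᵥ x) + polar (⇑Q) y (g.1.1 *ᵥ y) := fun x y => by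
    rw [Matrix.mulVec_add, polar_add_left, polar_add_right, polar_add_right, hsym x y,
      polar_comm (⇑Q) (g.1.1 *ᵥ x) y]
    linear_combination add_self' (polar (⇑Q) y (g.1.1 *ᵥ x))
  have hzero : ∀ x, polar (⇑Q) x (g.1.1 *ᵥ x) = 0 := by
    intro x
    have hx := span_nonsingular hB hq (by rwa [Module.finrank_fintype_fun_eq_card]) 0 0 x (map_zero _) (map_zero _)
    induction hx using Submodule.span_induction with
    | mem u hu => exact (mover_vec hQ hg hu.1).2
    | zero => exact QuadraticMap.polar_zero_left (Q := Q) _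
    | add u v _ _ h1 h2 => rw [hadd, h1, h2, add_zero]
    | smul a u _ h1 =>
      rcases two_cases a with rfl | rfl
      · rw [zero_smul]; exact QuadraticMap.polar_zero_left (Q := Q) _
      · rw [one_smul]; exact h1
  have hBD : ∀ x, polar (⇑Q) x (disp g x) = 0 := fun x => by
    rw [disp_apply, polar_add_right, hzero, zero_add]
    exact hB.self x
  refine ⟨fun x => ?_, hBD, fun x => ?_, fun x y => ?_, fun x hx => ?_⟩
  · rw [disp_apply, disp_apply, Matrix.mulVec_add, hgg, add_comm (g.1.1 *ᵥ x), vadd_self]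
  · have h := QuadraticMap.map_add Q x (disp g x)
    rw [← act_eq, iso_map, hBD, add_zero, left_eq_add] at h
    exact h
  · rw [disp_apply, disp_apply, polar_add_left, polar_add_right, hsym]
  · rcases two_cases (Q x) with e | e
    · exact e
    · refine absurd ?_ (mover_vec hQ hg e).1
      rw [act_eq, hx, add_zero]

/-- Hyperbolic quadruples adapted to a displacement. -/
structure Adapted (g : ↥(Cfsg.isometryGroup (ZMod 2) ⇑Q)) {k : ℕ} (u v : Fin k → ι → ZMod 2) : Prop where
  qu : ∀ i, Q (u i) = 0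
  qv : ∀ i, Q (v i) = 0
  uv : ∀ i j, polar (⇑Q) (u i) (v j) = 0
  uu : ∀ i j, polar (⇑Q) (u i) (u j) = 0
  vv : ∀ i j, polar (⇑Q) (v i) (v j) = 0
  utu : ∀ i j, polar (⇑Q) (u i) (disp g (u j)) = 0
  vtv : ∀ i j, polar (⇑Q) (v i) (disp g (v j)) = 0
  utv : ∀ i j, polar (⇑Q) (u i) (disp g (v j)) = if i = j then 1 else 0

variable {g : ↥(Cfsg.isometryGroup (ZMod 2) ⇑Q)} (hsq : ∀ x, disp g (disp g x) = 0)
  (halt : ∀ x, polar (⇑Q) x (disp g x) = 0) (hdq : ∀ x, Q (disp g x) = 0)
  (hsa : ∀ x y, polar (⇑Q) x (disp g y) = polar (⇑Q) (disp g x) y) (hker : ∀ x, disp g x = 0 → Q x = 0)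
include hsq halt hdq hsa hker

theorem Adapted.family {k : ℕ} {u v : Fin k → ι → ZMod 2} (h : Adapted g u v) :
    HypFam Q (Fin.append u v) (Fin.append (fun i => disp g (v i)) (fun i => disp g (u i))) := by
  have hdd : ∀ x y, polar (⇑Q) (disp g x) (disp g y) = 0 := fun x y => by
    rw [← hsa, hsq, polar_zero_right]
  refine ⟨fun i => ?_, fun i => ?_, fun i j => ?_, fun i j => ?_, fun i j => ?_⟩
  · refine Fin.addCases ?_ ?_ i <;> intro i <;> simp only [Fin.append_left, Fin.append_right]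
    exacts [h.qu i, h.qv i]
  · refine Fin.addCases ?_ ?_ i <;> intro i <;> simp only [Fin.append_left, Fin.append_right] <;> exact hdq _
  · refine Fin.addCases ?_ ?_ i <;> intro i <;> refine Fin.addCases ?_ ?_ j <;> intro j <;>
      simp only [Fin.append_left, Fin.append_right]
    · simp [h.utv, (Fin.castAdd_injective k k).eq_iff]
    · rw [h.utu, if_neg]
      intro e
      have := congrArg Fin.val e
      simp at this
      omega
    · rw [h.vtv, if_neg]
      intro e
      have := congrArg Fin.val e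
      simp at this
      omega
    · rw [hsa, polar_comm, h.utv]
      simp [(Fin.natAdd_injective k k).eq_iff, eq_comm, Fin.ext_iff]
  · refine Fin.addCases ?_ ?_ i <;> intro i <;> refine Fin.addCases ?_ ?_ j <;> intro j <;>
      simp only [Fin.append_left, Fin.append_right]
    exacts [h.uu i j, h.uv i j, (polar_comm _ _ _).trans (h.uv j i), h.vv i j]
  · refine Fin.addCases ?_ ?_ i <;> intro i <;> refine Fin.addCases ?_ ?_ j <;> intro j <;>
      simp only [Fin.append_left, Fin.append_right] <;> exact hdd _ _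

theorem exists_adapted : ∃ k, Fintype.card ι = 4 * k ∧ ∃ u v : Fin k → ι → ZMod 2, Adapted g u v := by
  classical
  have hB := OrthTwo.symp_polar hQ
  have hdd : ∀ x y, polar (⇑Q) (disp g x) (disp g y) = 0 := fun x y => by
    rw [← hsa, hsq, polar_zero_right]
  have main : ∀ k, 4 * k ≤ Fintype.card ι → ∀ u v : Fin k → ι → ZMod 2, Adapted g u v → 4 * k ≠ Fintype.card ι →
      4 * (k + 1) ≤ Fintype.card ι ∧ ∃ u' v' : Fin (k + 1) → ι → ZMod 2, Adapted g u' v' := by
    intro k hk u v h hne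
    -- the perpendicular space
    let P : (ι → ZMod 2) → Prop := fun x => ∀ i, polar (⇑Q) (u i) x = 0 ∧ polar (⇑Q) (v i) x = 0 ∧
      polar (⇑Q) (u i) (disp g x) = 0 ∧ polar (⇑Q) (v i) (disp g x) = 0
    let proj : (ι → ZMod 2) → ι → ZMod 2 := fun y =>
      y + ∑ i, (polar (⇑Q) (disp g (v i)) y • u i + polar (⇑Q) (disp g (u i)) y • v i +
        (polar (⇑Q) (u i) y • disp g (v i) + polar (⇑Q) (v i) y • disp g (u i)))
    have hproj : ∀ y, P (proj y) ∧ ∀ p, P p → polar (⇑Q) p (proj y) = polar (⇑Q) p y := by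
      intro y
      have sumr : ∀ w, polar (⇑Q) w (proj y) = polar (⇑Q) w y +
          ∑ i, (polar (⇑Q) (disp g (v i)) y * polar (⇑Q) w (u i) + polar (⇑Q) (disp g (u i)) y * polar (⇑Q) w (v i) +
            (polar (⇑Q) (u i) y * polar (⇑Q) w (disp g (v i)) + polar (⇑Q) (v i) y * polar (⇑Q) w (disp g (u i)))) := by
        intro w
        rw [← polarBilin_apply_apply]
        simp only [proj, map_add, map_sum, map_smul, smul_eq_mul, polarBilin_apply_apply]
      have e1 : ∀ i j, polar (⇑Q) (v i) (u j) = 0 := fun i j => by rw [polar_comm]; exact h.uv j i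
      have e2 : ∀ i j, polar (⇑Q) (v i) (disp g (u j)) = if i = j then 1 else 0 := fun i j => by
        rw [hsa, polar_comm, h.utv]; simp [eq_comm]
      have e3 : ∀ i j, polar (⇑Q) (disp g (u i)) (u j) = 0 := fun i j => by rw [polar_comm]; exact h.utu j i
      have e4 : ∀ i j, polar (⇑Q) (disp g (v i)) (v j) = 0 := fun i j => by rw [polar_comm]; exact h.vtv j i
      have e5 : ∀ i j, polar (⇑Q) (disp g (u i)) (v j) = if i = j then 1 else 0 := fun i j => by
        rw [polar_comm, e2]; simp [eq_comm]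
      have e6 : ∀ i j, polar (⇑Q) (disp g (v i)) (u j) = if i = j then 1 else 0 := fun i j => by
        rw [polar_comm, h.utv]; simp [eq_comm]
      refine ⟨fun i => ⟨?_, ?_, ?_, ?_⟩, fun p hp => ?_⟩
      · rw [sumr]
        simp [h.uu, h.uv, h.utu, h.utv, Finset.sum_ite_eq, mul_ite, add_self']
      · rw [sumr]
        simp [h.vv, e1, h.vtv, e2, Finset.sum_ite_eq, mul_ite, add_self']
      · rw [hsa, sumr]
        simp [e3, e5, hdd, Finset.sum_ite_eq, mul_ite, add_self']
      · rw [hsa, sumr]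
        simp [e4, e6, hdd, Finset.sum_ite_eq, mul_ite, add_self']
      · rw [sumr, add_eq_left]
        refine Finset.sum_eq_zero fun i _ => ?_
        obtain ⟨a1, a2, a3, a4⟩ := hp i
        rw [polar_comm (⇑Q) p (u i), a1, polar_comm (⇑Q) p (v i), a2, hsa p (v i), polar_comm (⇑Q) (disp g p), a4,
          hsa p (u i), polar_comm (⇑Q) (disp g p), a3]
        ring
    -- a nonzero vector there
    let L : (ι → ZMod 2) →ₗ[ZMod 2] (Fin 4 × Fin k → ZMod 2) :=
      LinearMap.pi fun p => polarBilin Q (![u p.2, v p.2, disp g (u p.2), disp g (v p.2)] p.1)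
    obtain ⟨p, hp, hp0⟩ := Submodule.exists_mem_ne_zero_of_ne_bot (LinearMap.ker_ne_bot_of_finrank_lt (f := L)
      (by rw [Module.finrank_pi, Module.finrank_pi, Fintype.card_prod, Fintype.card_fin, Fintype.card_fin]; omega))
    have hpP : P p := fun i => ⟨congrFun (LinearMap.mem_ker.mp hp) (0, i), congrFun (LinearMap.mem_ker.mp hp) (1, i),
      by rw [hsa]; exact congrFun (LinearMap.mem_ker.mp hp) (2, i),
      by rw [hsa]; exact congrFun (LinearMap.mem_ker.mp hp) (3, i)⟩
    have hPadd : ∀ {a b}, P a → P b → P (a + b) := fun {a b} ha hb i => by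
      obtain ⟨a1, a2, a3, a4⟩ := ha i
      obtain ⟨b1, b2, b3, b4⟩ := hb i
      simp [polar_add_right, map_add, a1, a2, a3, a4, b1, b2, b3, b4]
    have hPd : ∀ {a}, P a → P (disp g a) := fun {a} ha i => by
      obtain ⟨a1, a2, a3, a4⟩ := ha i
      refine ⟨a3, a4, ?_, ?_⟩ <;> rw [hsq, polar_zero_right]
    obtain ⟨x, hxP, hx⟩ : ∃ x, P x ∧ disp g x ≠ 0 := by
      by_contra hno
      push Not at hno
      obtain ⟨y, hy⟩ := hB.exists_one hp0
      obtain ⟨hP', hpy⟩ := hproj y
      have h1 := hpy p hpP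
      rw [show polar (⇑Q) p y = 1 from hy, polar, hker _ (hno _ (hPadd hpP hP')), hker _ (hno _ hpP),
        hker _ (hno _ hP')] at h1
      simp at h1
    obtain ⟨y₀, hy₀⟩ := hB.exists_one hx
    obtain ⟨hyP, hy'⟩ := hproj y₀
    set y := proj y₀
    have hxy : polar (⇑Q) (disp g x) y = 1 := (hy' _ (hPd hxP)).trans hy₀
    -- normalise
    obtain ⟨a, ha, hQa, hay⟩ : ∃ a, P a ∧ Q a = 0 ∧ polar (⇑Q) (disp g a) y = 1 := by
      rcases two_cases (Q x) with e | e
      · exact ⟨x, hxP, e, hxy⟩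
      · refine ⟨x + disp g y, hPadd hxP (hPd hyP), ?_, by rw [map_add, hsq, add_zero, hxy]⟩
        rw [QuadraticMap.map_add Q, e, hdq, hsa, hxy]
        decide
    obtain ⟨b, hb, hQb, hab⟩ : ∃ b, P b ∧ Q b = 0 ∧ polar (⇑Q) (disp g a) b = 1 := by
      rcases two_cases (Q y) with e | e
      · exact ⟨y, hyP, e, hay⟩
      · refine ⟨y + disp g a, hPadd hyP (hPd ha), ?_, by rw [polar_add_right, hdd, add_zero, hay]⟩
        rw [QuadraticMap.map_add Q, e, hdq, polar_comm, hay]
        decide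
    obtain ⟨c, hc, hQc, hac, hac0⟩ : ∃ c, P c ∧ Q c = 0 ∧ polar (⇑Q) (disp g a) c = 1 ∧ polar (⇑Q) a c = 0 := by
      rcases two_cases (polar (⇑Q) a b) with e | e
      · exact ⟨b, hb, hQb, hab, e⟩
      · refine ⟨b + disp g b, hPadd hb (hPd hb), ?_, by rw [polar_add_right, hdd, add_zero, hab], ?_⟩
        · rw [QuadraticMap.map_add Q, hQb, hdq, halt, add_zero, add_zero]
        · rw [polar_add_right, e, hsa, hab]
          decide
    have hat : polar (⇑Q) a (disp g c) = 1 := by rw [hsa]; exact hac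
    have hA : Adapted g (Fin.snoc u a) (Fin.snoc v c) := by
      refine ⟨fun i => ?_, fun i => ?_, fun i j => ?_, fun i j => ?_, fun i j => ?_, fun i j => ?_, fun i j => ?_,
        fun i j => ?_⟩
      · refine Fin.lastCases ?_ (fun i => ?_) i <;> simp [hQa, h.qu]
      · refine Fin.lastCases ?_ (fun i => ?_) i <;> simp [hQc, h.qv]
      · refine Fin.lastCases ?_ (fun i => ?_) i <;> refine Fin.lastCases ?_ (fun j => ?_) j <;>
          simp [h.uv, hac0, (hc _).1, polar_comm (⇑Q) a (v _), (ha _).2.1]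
      · refine Fin.lastCases ?_ (fun i => ?_) i <;> refine Fin.lastCases ?_ (fun j => ?_) j <;>
          simp only [Fin.snoc_last, Fin.snoc_castSucc]
        · exact hB.self a
        · rw [polar_comm]; exact (ha j).1
        · exact (ha i).1
        · exact h.uu i j
      · refine Fin.lastCases ?_ (fun i => ?_) i <;> refine Fin.lastCases ?_ (fun j => ?_) j <;>
          simp only [Fin.snoc_last, Fin.snoc_castSucc]
        · exact hB.self c
        · rw [polar_comm]; exact (hc j).2.1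
        · exact (hc i).2.1
        · exact h.vv i j
      · refine Fin.lastCases ?_ (fun i => ?_) i <;> refine Fin.lastCases ?_ (fun j => ?_) j <;>
          simp only [Fin.snoc_last, Fin.snoc_castSucc]
        · exact halt a
        · rw [hsa, polar_comm]; exact (ha j).2.2.1
        · exact (ha i).2.2.1
        · exact h.utu i j
      · refine Fin.lastCases ?_ (fun i => ?_) i <;> refine Fin.lastCases ?_ (fun j => ?_) j <;>
          simp only [Fin.snoc_last, Fin.snoc_castSucc]
        · exact halt c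
        · rw [hsa, polar_comm]; exact (hc j).2.2.2
        · exact (hc i).2.2.2
        · exact h.vtv i j
      · refine Fin.lastCases ?_ (fun i => ?_) i <;> refine Fin.lastCases ?_ (fun j => ?_) j <;>
          simp only [Fin.snoc_last, Fin.snoc_castSucc, if_true]
        · exact hat
        · rw [if_neg (Fin.castSucc_lt_last j).ne']
          rw [hsa, polar_comm]; exact (ha j).2.2.2
        · rw [if_neg (Fin.castSucc_lt_last i).ne]
          exact (hc i).2.2.1
        · rw [h.utv]; simp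
    refine ⟨?_, _, _, hA⟩
    have := (hA.family hQ hsq halt hdq hsa hker).linearIndependent.fintype_card_le_finrank
    rw [Module.finrank_fintype_fun_eq_card, Fintype.card_sum, Fintype.card_fin] at this
    omega
  have hex : ∀ N k, 4 * k ≤ Fintype.card ι → Fintype.card ι ≤ 4 * k + N → ∀ u v : Fin k → ι → ZMod 2,
      Adapted g u v → ∃ k, Fintype.card ι = 4 * k ∧ ∃ u v : Fin k → ι → ZMod 2, Adapted g u v := by
    intro N
    induction N with
    | zero => exact fun k h1 h2 u v h => ⟨k, by omega, u, v, h⟩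
    | succ N ih =>
      intro k h1 h2 u v h
      by_cases he : 4 * k = Fintype.card ι
      · exact ⟨k, he.symm, u, v, h⟩
      · obtain ⟨h3, u', v', h'⟩ := main k h1 u v h he
        exact ih (k + 1) h3 (by omega) u' v' h'
  exact hex (Fintype.card ι) 0 (by omega) (by omega) Fin.elim0 Fin.elim0
    ⟨fun i => i.elim0, fun i => i.elim0, fun i => i.elim0, fun i => i.elim0, fun i => i.elim0, fun i => i.elim0,
      fun i => i.elim0, fun i => i.elim0⟩

omit hsq halt hdq hsa hker in
/-- Movers are conjugate, and the form is hyperbolic. -/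
theorem movers_conj (hdim : 8 ≤ Fintype.card ι) {g g₀ : ↥(Cfsg.isometryGroup (ZMod 2) ⇑Q)}
    (hg : IsMover (TS Q) g) (hg₀ : IsMover (TS Q) g₀) : ∃ r, r * g₀ * r⁻¹ = g := by
  classical
  obtain ⟨s1, s2, s3, s4, s5⟩ := mover_lift hQ hdim hg
  obtain ⟨r1, r2, r3, r4, r5⟩ := mover_lift hQ hdim hg₀
  obtain ⟨k, hk, u, v, h⟩ := exists_adapted hQ s1 s2 s3 s4 s5
  obtain ⟨k₀, hk₀, u₀, v₀, h₀⟩ := exists_adapted hQ r1 r2 r3 r4 r5
  obtain rfl : k₀ = k := by omega
  have F := h.family hQ s1 s2 s3 s4 s5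
  have F₀ := h₀.family hQ r1 r2 r3 r4 r5
  have hd : Module.finrank (ZMod 2) (ι → ZMod 2) = 2 * (k₀ + k₀) := by
    rw [Module.finrank_fintype_fun_eq_card]; omega
  let b := basisOfLinearIndependentOfCardEqFinrank' _ F.linearIndependent (by simp [hd, two_mul])
  let b₀ := basisOfLinearIndependentOfCardEqFinrank' _ F₀.linearIndependent (by simp [hd, two_mul])
  let ψ := b₀.equiv b (Equiv.refl _)
  have hψ : ∀ p, ψ (b₀ p) = b p := fun p => by simp [ψ]
  have hbv : ∀ p, b p = Sum.elim (Fin.append u v) (Fin.append (fun i => disp g (v i)) (fun i => disp g (u i))) p :=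
    fun p => by simp [b]
  have hbv₀ : ∀ p, b₀ p =
      Sum.elim (Fin.append u₀ v₀) (Fin.append (fun i => disp g₀ (v₀ i)) (fun i => disp g₀ (u₀ i))) p :=
    fun p => by simp [b₀]
  have hpres : ∀ x, Q (ψ x) = Q x := by
    intro x
    rw [← b₀.sum_equivFun x, Fintype.sum_sum_type, map_add, map_sum, map_sum]
    simp only [map_smul, hψ]
    simp only [hbv, hbv₀, Sum.elim_inl, Sum.elim_inr]
    rw [F.quad_comb, F₀.quad_comb]
  let M : (Matrix ι ι (ZMod 2))ˣ :=
    ⟨LinearMap.toMatrix' ψ.toLinearMap, LinearMap.toMatrix' ψ.symm.toLinearMap,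
      by rw [← LinearMap.toMatrix'_comp, LinearEquiv.comp_symm, LinearMap.toMatrix'_id],
      by rw [← LinearMap.toMatrix'_comp, LinearEquiv.symm_comp, LinearMap.toMatrix'_id]⟩
  have hM : ∀ x, M.1 *ᵥ x = ψ x := fun x => by
    show LinearMap.toMatrix' ψ.toLinearMap *ᵥ x = _
    rw [← Matrix.toLin'_apply, Matrix.toLin'_toMatrix']
    rfl
  let r : ↥(Cfsg.isometryGroup (ZMod 2) ⇑Q) := ⟨M, fun x _ => by
    show Q (M.1 *ᵥ x) = Q x
    rw [hM, hpres]⟩
  refine ⟨r, ?_⟩
  have key : ∀ x, disp g (ψ x) = ψ (disp g₀ x) := by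
    intro x
    have e : (disp g) ∘ₗ ψ.toLinearMap = ψ.toLinearMap ∘ₗ (disp g₀) := b₀.ext fun p => by
      show disp g (ψ (b₀ p)) = ψ (disp g₀ (b₀ p))
      rw [hψ]
      rcases p with p | p <;> refine Fin.addCases ?_ ?_ p <;> intro i
      · have e := hψ (.inr (Fin.natAdd k₀ i))
        simp only [hbv, hbv₀, Sum.elim_inr, Fin.append_right] at e
        simp only [hbv, hbv₀, Sum.elim_inl, Fin.append_left, e]
      · have e := hψ (.inr (Fin.castAdd k₀ i))
        simp only [hbv, hbv₀, Sum.elim_inr, Fin.append_left] at e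
        simp only [hbv, hbv₀, Sum.elim_inl, Fin.append_right, e]
      · simp only [hbv, hbv₀, Sum.elim_inr, Fin.append_left, s1, r1, map_zero]
      · simp only [hbv, hbv₀, Sum.elim_inr, Fin.append_right, s1, r1, map_zero]
    exact LinearMap.congr_fun e x
  rw [mul_inv_eq_iff_eq_mul]
  refine iso_ext Q fun x => ?_
  rw [iso_mul, iso_mul]
  show M.1 *ᵥ (g₀.1.1 *ᵥ x) = g.1.1 *ᵥ (M.1 *ᵥ x)
  rw [hM, hM, act_eq, act_eq g (ψ x), map_add, key]

omit hsq halt hdq hsa hker in
/-- A mover gives a totally singular subspace of half dimension. -/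
theorem mover_singular (hdim : 8 ≤ Fintype.card ι) {g : ↥(Cfsg.isometryGroup (ZMod 2) ⇑Q)}
    (hg : IsMover (TS Q) g) :
    ∃ U : Submodule (ZMod 2) (ι → ZMod 2), (∀ x ∈ U, Q x = 0) ∧ Fintype.card ι ≤ 2 * Module.finrank (ZMod 2) U := by
  obtain ⟨s1, -, -, -, s5⟩ := mover_lift hQ hdim hg
  refine ⟨LinearMap.ker (disp g), fun x hx => s5 x hx, ?_⟩
  have h1 := LinearMap.finrank_range_add_finrank_ker (disp g)
  have h2 : Module.finrank (ZMod 2) (LinearMap.range (disp g)) ≤ Module.finrank (ZMod 2) (LinearMap.ker (disp g)) :=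
    Submodule.finrank_mono (by rintro _ ⟨x, rfl⟩; exact s1 x)
  rw [Module.finrank_fintype_fun_eq_card] at h1
  omega

end CfsgFischer.Orth
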