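/-
In dimension twelve or more a hyperbolic form over two elements has more movers than commuting pairs of transvections.
-/
import Cfsg.Agent.Lib.Fischer.Triality.OrthMover

set_option autoImplicit false
set_option linter.unusedSectionVars false

namespace CfsgFischer.Orth

open Cfsg QuadraticMap CfsgReflClass Matrix CfsgFischer.Triality CfsgFischer.FormTwo CfsgLib.FiniteForms

variable {m : ℕ}

/-- Pairs of indices in increasing order. -/
abbrev Up (m : ℕ) : Type := (j : Fin m) × Fin j.val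

theorem up_card (m : ℕ) : 2 * Fintype.card (Up m) + m = m * m := by
  rw [Fintype.card_sigma]
  simp only [Fintype.card_fin]
  rw [Fin.sum_univ_eq_sum_range (fun i => i) m, mul_comm 2, Finset.sum_range_id_mul_two]
  rcases m with - | m
  · rfl
  · rw [Nat.add_sub_cancel]; ring

/-- A strictly triangular matrix. -/
def upper (f : Up m → ZMod 2) : Matrix (Fin m) (Fin m) (ZMod 2) := Matrix.of fun i j =>
  if h : i.val < j.val then f ⟨j, ⟨i.val, h⟩⟩ else 0

theorem upper_apply (f : Up m → ZMod 2) (p : Up m) :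
    upper f ⟨p.2.val, lt_trans p.2.isLt p.1.isLt⟩ p.1 = f p := by
  obtain ⟨j, i⟩ := p
  exact dif_pos i.isLt

theorem alt_form {κ : Type} [Fintype κ] (P : Matrix κ κ (ZMod 2)) (x : κ → ZMod 2) :
    x ⬝ᵥ ((P + Pᵀ) *ᵥ x) = 0 := by
  rw [Matrix.add_mulVec, dotProduct_add, Matrix.mulVec_transpose, dotProduct_comm x (x ᵥ* P), ← dotProduct_mulVec,
    add_self']

theorem alt_upper_inj {f f' : Up m → ZMod 2} (h : upper f + (upper f)ᵀ = upper f' + (upper f')ᵀ) : f = f' := by
  funext p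
  have e := congrFun (congrFun h ⟨p.2.val, lt_trans p.2.isLt p.1.isLt⟩) p.1
  have hz : ∀ g : Up m → ZMod 2, upper g p.1 ⟨p.2.val, lt_trans p.2.isLt p.1.isLt⟩ = 0 := fun g => by
    have hn : ¬ (p.1.val < (⟨p.2.val, lt_trans p.2.isLt p.1.isLt⟩ : Fin m).val) := not_lt.mpr p.2.isLt.le
    simp only [upper, Matrix.of_apply]
    exact dif_neg hn
  simpa [Matrix.add_apply, upper_apply, hz] using e

/-- The alternating block matrices used for the movers. -/
def blockAlt {l : ℕ} (a b : Up l → ZMod 2) : Matrix (Fin (l + l)) (Fin (l + l)) (ZMod 2) :=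
  (Matrix.fromBlocks (upper a) (1 + upper b) 0 0).submatrix finSumFinEquiv.symm finSumFinEquiv.symm

theorem det_unitri {l : ℕ} (b : Up l → ZMod 2) : (1 + upper b).det = 1 := by
  rw [Matrix.det_of_upperTriangular]
  · simp [upper]
  · intro i j hij
    have h' : ¬ i.val < j.val := not_lt.mpr (le_of_lt hij)
    have hne : i ≠ j := (ne_of_lt hij).symm
    rw [Matrix.add_apply, Matrix.one_apply_ne hne, zero_add]
    exact dif_neg h'

theorem blockAlt_inj {l : ℕ} (a b : Up l → ZMod 2) (y : Fin (l + l) → ZMod 2)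
    (h : (blockAlt a b + (blockAlt a b)ᵀ) *ᵥ y = 0) : y = 0 := by
  set N := Matrix.fromBlocks (upper a + (upper a)ᵀ) (1 + upper b) (1 + upper b)ᵀ 0 with hN
  have e : blockAlt a b + (blockAlt a b)ᵀ = N.submatrix finSumFinEquiv.symm finSumFinEquiv.symm := by
    rw [blockAlt, Matrix.transpose_submatrix, hN, Matrix.fromBlocks_transpose]
    ext i j
    simp only [Matrix.add_apply, Matrix.submatrix_apply]
    rcases finSumFinEquiv.symm i with i | i <;> rcases finSumFinEquiv.symm j with j | j <;> simp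
  have hdet : IsUnit N := by
    rw [Matrix.isUnit_iff_isUnit_det, isUnit_iff_ne_zero]
    intro h0
    obtain ⟨v, hv, hv0⟩ := Matrix.exists_mulVec_eq_zero_iff.mpr h0
    apply hv
    rw [hN, Matrix.fromBlocks_mulVec] at hv0
    have h1 : (1 + upper b)ᵀ *ᵥ (v ∘ Sum.inl) = 0 := by
      funext i; simpa using congrFun hv0 (Sum.inr i)
    have hu : IsUnit (1 + upper b) := (Matrix.isUnit_iff_isUnit_det _).mpr (by rw [det_unitri]; exact isUnit_one)
    have hut : IsUnit (1 + upper b)ᵀ :=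
      (Matrix.isUnit_iff_isUnit_det _).mpr (by rw [Matrix.det_transpose, det_unitri]; exact isUnit_one)
    have hl : v ∘ Sum.inl = 0 := (Matrix.mulVec_injective_iff_isUnit.mpr hut) (h1.trans (Matrix.mulVec_zero _).symm)
    have h2 : (1 + upper b) *ᵥ (v ∘ Sum.inr) = 0 := by
      funext i
      have := congrFun hv0 (Sum.inl i)
      rw [hl] at this
      simpa using this
    have hr : v ∘ Sum.inr = 0 := (Matrix.mulVec_injective_iff_isUnit.mpr hu) (h2.trans (Matrix.mulVec_zero _).symm)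
    funext i
    rcases i with i | i
    · exact congrFun hl i
    · exact congrFun hr i
  have hu : IsUnit (N.submatrix finSumFinEquiv.symm finSumFinEquiv.symm) := by
    rw [Matrix.isUnit_iff_isUnit_det, Matrix.det_submatrix_equiv_self]
    exact (Matrix.isUnit_iff_isUnit_det _).mp hdet
  rw [e] at h
  exact (Matrix.mulVec_injective_iff_isUnit.mpr hu) (h.trans (Matrix.mulVec_zero _).symm)

theorem blockAlt_data {l : ℕ} {a b a' b' : Up l → ZMod 2}
    (h : blockAlt a b + (blockAlt a b)ᵀ = blockAlt a' b' + (blockAlt a' b')ᵀ) : a = a' ∧ b = b' := by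
  have he : ∀ i j, (blockAlt a b + (blockAlt a b)ᵀ) (finSumFinEquiv i) (finSumFinEquiv j) =
      (blockAlt a' b' + (blockAlt a' b')ᵀ) (finSumFinEquiv i) (finSumFinEquiv j) := fun i j => by rw [h]
  constructor
  · refine alt_upper_inj (Matrix.ext fun i j => ?_)
    simpa [blockAlt] using he (Sum.inl i) (Sum.inl j)
  · funext p
    have := he (Sum.inl ⟨p.2.val, lt_trans p.2.isLt p.1.isLt⟩) (Sum.inr p.1)
    simp only [blockAlt, Matrix.add_apply, Matrix.transpose_apply, Matrix.submatrix_apply, Equiv.symm_apply_apply,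
      Matrix.fromBlocks_apply₁₂, Matrix.fromBlocks_apply₂₁, Matrix.zero_apply, add_zero] at this
    simpa [upper_apply] using this

/-- The displacement with parameters `β` and `α`. -/
def dmap (β α : Matrix (Fin m) (Fin m) (ZMod 2)) : (Fin m ⊕ Fin m → ZMod 2) →ₗ[ZMod 2] (Fin m ⊕ Fin m → ZMod 2) where
  toFun v := Sum.elim (α *ᵥ (v ∘ Sum.inr + β *ᵥ (v ∘ Sum.inl))) (β *ᵥ (α *ᵥ (v ∘ Sum.inr + β *ᵥ (v ∘ Sum.inl))))
  map_add' v w := by
    have e1 : (v + w) ∘ Sum.inl = v ∘ Sum.inl + w ∘ Sum.inl := rfl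
    have e2 : (v + w) ∘ Sum.inr = v ∘ Sum.inr + w ∘ Sum.inr := rfl
    funext i
    rcases i with i | i <;> simp [e1, e2, Matrix.mulVec_add] <;> ring
  map_smul' a v := by
    have e1 : (a • v) ∘ Sum.inl = a • (v ∘ Sum.inl) := rfl
    have e2 : (a • v) ∘ Sum.inr = a • (v ∘ Sum.inr) := rfl
    funext i
    rcases i with i | i <;> simp [e1, e2, Matrix.mulVec_smul, ← smul_add]

theorem dmap_sq (β α : Matrix (Fin m) (Fin m) (ZMod 2)) (v : Fin m ⊕ Fin m → ZMod 2) :
    dmap β α (dmap β α v) = 0 := by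
  have e : ∀ w : Fin m → ZMod 2, (Sum.elim w (β *ᵥ w)) ∘ Sum.inr + β *ᵥ ((Sum.elim w (β *ᵥ w)) ∘ Sum.inl) = 0 := by
    intro w
    show β *ᵥ w + β *ᵥ w = 0
    funext i
    exact add_self' _
  show Sum.elim _ _ = 0
  rw [show (dmap β α v) ∘ Sum.inr + β *ᵥ ((dmap β α v) ∘ Sum.inl) = 0 from e _, Matrix.mulVec_zero, Matrix.mulVec_zero]
  funext i
  rcases i with i | i <;> rfl

theorem plus_dot (v : Fin m ⊕ Fin m → ZMod 2) : formP m v = (v ∘ Sum.inl) ⬝ᵥ (v ∘ Sum.inr) := by
  rw [formP_coe]; rfl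

theorem dmap_form (β α : Matrix (Fin m) (Fin m) (ZMod 2)) (hβ : ∀ x, x ⬝ᵥ (β *ᵥ x) = 0)
    (hα : ∀ x, x ⬝ᵥ (α *ᵥ x) = 0) (v : Fin m ⊕ Fin m → ZMod 2) :
    formP m (v + dmap β α v) = formP m v ∧ formP m (dmap β α v) = 0 := by
  set x := v ∘ Sum.inl
  set y := v ∘ Sum.inr
  set w := α *ᵥ (y + β *ᵥ x) with hw
  have el : (v + dmap β α v) ∘ Sum.inl = x + w := rfl
  have er : (v + dmap β α v) ∘ Sum.inr = y + β *ᵥ w := rfl
  refine ⟨?_, ?_⟩
  · rw [plus_dot, plus_dot, el, er, add_dotProduct, dotProduct_add, dotProduct_add, hβ w]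
    have h1 : x ⬝ᵥ (β *ᵥ w) = w ⬝ᵥ (β *ᵥ x) := by
      have h := hβ (x + w)
      rw [Matrix.mulVec_add, add_dotProduct, dotProduct_add, dotProduct_add, hβ, hβ, zero_add, add_zero] at h
      exact (by decide : ∀ a b : ZMod 2, a + b = 0 → a = b) _ _ h
    have h2 : w ⬝ᵥ y + w ⬝ᵥ (β *ᵥ x) = 0 := by
      rw [← dotProduct_add, dotProduct_comm, hw]
      exact hα _
    rw [h1]
    linear_combination h2
  · rw [plus_dot]
    exact hβ w

theorem tt_commute {ι : Type} [Fintype ι] [DecidableEq ι] {Q : QuadraticForm (ZMod 2) (ι → ZMod 2)}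
    (hQ : (polarBilin Q).Nondegenerate) {u v : ι → ZMod 2} (hu : Q u = 1) (hv : Q v = 1)
    (h : Commute (OrthTwo.tt Q u) (OrthTwo.tt Q v)) : polar (⇑Q) u v = 0 := by
  by_contra hc
  have e : OrthTwo.tt Q u * OrthTwo.tt Q v * (OrthTwo.tt Q u)⁻¹ = OrthTwo.tt Q v := by
    rw [h.eq, mul_inv_cancel_right]
  have hw := (OrthTwo.tt_spec hv).conj (g := OrthTwo.tt Q u)
  rw [e, refl2_apply (OrthTwo.tt_spec hu), eq_one hc, one_smul] at hw
  have h3 := tt_inj hQ hv (eq_one hw.1) (hw.unique (OrthTwo.tt_spec (eq_one hw.1)))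
  exact (OrthTwo.quad Q).ne_zero hu (by simpa using h3.symm)

theorem commute_of_perp {ι : Type} [Fintype ι] [DecidableEq ι] {Q : QuadraticForm (ZMod 2) (ι → ZMod 2)}
    {u v : ι → ZMod 2} (hu : Q u = 1) (hv : Q v = 1)
    (h : polar (⇑Q) u v = 0) : Commute (OrthTwo.tt Q u) (OrthTwo.tt Q v) := by
  refine iso_ext Q fun x => ?_
  rw [iso_mul, iso_mul, refl2_apply (OrthTwo.tt_spec hu), refl2_apply (OrthTwo.tt_spec hv),
    refl2_apply (OrthTwo.tt_spec hv), refl2_apply (OrthTwo.tt_spec hu)]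
  simp only [polar_add_right, polar_smul_right, h, polar_comm (⇑Q) v u, smul_zero, add_zero]
  abel

theorem gmat_spec (β α : Matrix (Fin m) (Fin m) (ZMod 2)) (hβ : ∀ x, x ⬝ᵥ (β *ᵥ x) = 0)
    (hα : ∀ x, x ⬝ᵥ (α *ᵥ x) = 0) :
    ∃ g : ↥(Cfsg.isometryGroup (ZMod 2) ⇑(formP m)), ∀ x, g.1.1 *ᵥ x = x + dmap β α x := by
  let φ : (Fin m ⊕ Fin m → ZMod 2) →ₗ[ZMod 2] (Fin m ⊕ Fin m → ZMod 2) := LinearMap.id + dmap β α
  have hφ : φ ∘ₗ φ = LinearMap.id := LinearMap.ext fun x => by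
    show x + dmap β α x + dmap β α (x + dmap β α x) = x
    rw [map_add, dmap_sq, add_zero, add_cancel']
  have hM : LinearMap.toMatrix' φ * LinearMap.toMatrix' φ = 1 := by
    rw [← LinearMap.toMatrix'_comp, hφ, LinearMap.toMatrix'_id]
  have happ : ∀ x, LinearMap.toMatrix' φ *ᵥ x = x + dmap β α x := fun x => by
    rw [← Matrix.toLin'_apply, Matrix.toLin'_toMatrix']
    rfl
  refine ⟨⟨⟨_, _, hM, hM⟩, fun x _ => ?_⟩, happ⟩
  show formP m (LinearMap.toMatrix' φ *ᵥ x) = formP m x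
  rw [happ]
  exact (dmap_form β α hβ hα x).1

theorem nonsingular_card (m : ℕ) :
    2 * {u : Fin m ⊕ Fin m → ZMod 2 | formP m u = 1}.ncard ≤ 2 ^ (2 * m) := by
  classical
  let V := Fin m ⊕ Fin m → ZMod 2
  let σ : V → V := fun v => if h : ∃ i, v (Sum.inr i) = 1 then
    v + Pi.single (Sum.inl h.choose) 1 else v
  have hQ : ∀ v : V, formP m v = 1 → formP m (σ v) = 0 ∧ ∀ i, σ v (Sum.inr i) = v (Sum.inr i) := by
    intro v hv
    have h : ∃ i, v (Sum.inr i) = 1 := by
      by_contra hno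
      push Not at hno
      rw [plus_dot, show v ∘ Sum.inr = 0 from funext fun i => ne_one_iff.mp (hno i), dotProduct_zero] at hv
      exact zero_ne_one hv
    simp only [σ, dif_pos h]
    refine ⟨?_, fun i => by rw [Pi.add_apply, Pi.single_eq_of_ne (by simp), add_zero]⟩
    rw [plus_dot, show (v + Pi.single (Sum.inl h.choose) 1) ∘ Sum.inl = v ∘ Sum.inl + Pi.single h.choose 1 from
        funext fun i => by
          rw [Function.comp_apply, Pi.add_apply, Pi.add_apply, Function.comp_apply]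
          congr 1
          by_cases hi : i = h.choose
          · subst hi; rw [Pi.single_eq_same, Pi.single_eq_same]
          · rw [Pi.single_eq_of_ne hi, Pi.single_eq_of_ne (by simpa using hi)],
      show (v + Pi.single (Sum.inl h.choose) 1) ∘ Sum.inr = v ∘ Sum.inr from funext fun i => by
        rw [Function.comp_apply, Pi.add_apply, Pi.single_eq_of_ne (by simp), add_zero, Function.comp_apply],
      add_dotProduct, single_dotProduct, ← plus_dot, hv, Function.comp_apply, h.choose_spec]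
    decide
  set A := {u : V | formP m u = 1}
  have hinj : Set.InjOn σ A := by
    intro u hu v hv e
    have hr : ∀ i, u (Sum.inr i) = v (Sum.inr i) := fun i => by rw [← (hQ u hu).2 i, e, (hQ v hv).2 i]
    simp only [σ] at e
    by_cases h : ∃ i, v (Sum.inr i) = 1
    · have h' : ∃ i, u (Sum.inr i) = 1 := by simpa only [hr] using h
      rw [dif_pos h, dif_pos h'] at e
      have e' : h'.choose = h.choose := by congr 1; funext i; rw [hr]
      rwa [e', add_left_inj] at e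
    · have h' : ¬ ∃ i, u (Sum.inr i) = 1 := by simpa only [hr] using h
      rwa [dif_neg h, dif_neg h'] at e
  have h1 : (σ '' A) ∩ A = ∅ := by
    ext w
    simp only [Set.mem_inter_iff, Set.mem_empty_iff_false, iff_false]
    rintro ⟨⟨u, hu, rfl⟩, hw⟩
    exact zero_ne_one ((hQ u hu).1.symm.trans hw)
  have h2 := Set.ncard_union_eq (Set.disjoint_iff_inter_eq_empty.mpr h1) (Set.toFinite _) (Set.toFinite _)
  rw [hinj.ncard_image] at h2
  have h3 := Set.ncard_le_card (σ '' A ∪ A)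
  rw [Nat.card_eq_fintype_card, Fintype.card_fun, ZMod.card, Fintype.card_sum, Fintype.card_fin, ← two_mul] at h3
  omega

theorem partner_card {u : Fin m ⊕ Fin m → ZMod 2} (hu : formP m u = 1) :
    4 * ({v : Fin m ⊕ Fin m → ZMod 2 | formP m v = 1 ∧ v ≠ u ∧ polar (⇑(formP m)) u v = 0}.ncard + 1) ≤
      2 ^ (2 * m) := by
  classical
  have hB := OrthTwo.symp_polar (formP_nondeg m)
  have hq := OrthTwo.quad (formP m)
  obtain ⟨w, hw⟩ := hB.exists_one (hq.ne_zero hu)
  have huw : polar (⇑(formP m)) u w = 1 := hw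
  have huu : polar (⇑(formP m)) u u = 0 := hB.self u
  set A := {v : Fin m ⊕ Fin m → ZMod 2 | formP m v = 1 ∧ polar (⇑(formP m)) u v = 0}
  have hA : A = insert u {v : Fin m ⊕ Fin m → ZMod 2 | formP m v = 1 ∧ v ≠ u ∧ polar (⇑(formP m)) u v = 0} := by
    ext v
    by_cases h : v = u <;> simp [A, h, hu, huu]
  have hn : A.ncard = {v : Fin m ⊕ Fin m → ZMod 2 | formP m v = 1 ∧ v ≠ u ∧ polar (⇑(formP m)) u v = 0}.ncard + 1 := by
    rw [hA, Set.ncard_insert_of_notMem (fun h => h.2.1 rfl) (Set.toFinite _)]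
  rw [← hn, ← Nat.card_coe_set_eq]
  have hinj : Function.Injective (fun p : A × (ZMod 2 × ZMod 2) =>
      (p.1 : Fin m ⊕ Fin m → ZMod 2) + p.2.1 • u + p.2.2 • w) := by
    rintro ⟨⟨v, hv, hvu⟩, a, b⟩ ⟨⟨v', hv', hvu'⟩, a', b'⟩ e
    simp only at e
    have e1 := congrArg (fun z => polar (⇑(formP m)) u z) e
    simp only [polar_add_right, polar_smul_right, hvu, hvu', huu, huw, smul_eq_mul, mul_zero, mul_one, zero_add] at e1
    subst e1
    rw [add_left_inj] at e
    have e2 := congrArg (formP m) e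
    have hq' : ∀ (z : Fin m ⊕ Fin m → ZMod 2) (s : ZMod 2), formP m z = 1 → polar (⇑(formP m)) u z = 0 →
        formP m (z + s • u) = 1 + s := fun z s hz hzu => by
      rw [hq, hq.smul, hz, hu, map_smul, show (polarBilin (formP m)) z u = 0 from (polar_comm _ _ _).trans hzu,
        smul_zero, add_zero, mul_one]
    rw [hq' v a hv hvu, hq' v' a' hv' hvu', add_right_inj] at e2
    subst e2
    rw [add_left_inj] at e
    subst e
    rfl
  have := Nat.card_le_card_of_injective _ hinj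
  rw [Nat.card_prod, Nat.card_prod, Nat.card_zmod, Nat.card_eq_fintype_card (α := Fin m ⊕ Fin m → ZMod 2),
    Fintype.card_fun, ZMod.card, Fintype.card_sum, Fintype.card_fin, ← two_mul] at this
  linarith

/-- More movers than commuting pairs. -/
theorem movers_many {l : ℕ} (hl : 3 ≤ l) :
    {p : ↥(Cfsg.isometryGroup (ZMod 2) ⇑(formP (l + l))) × ↥(Cfsg.isometryGroup (ZMod 2) ⇑(formP (l + l))) |
        p.1 ∈ TS (formP (l + l)) ∧ p.2 ∈ TS (formP (l + l)) ∧ p.1 ≠ p.2 ∧ Commute p.1 p.2}.ncard <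
      {g : ↥(Cfsg.isometryGroup (ZMod 2) ⇑(formP (l + l))) | IsMover (TS (formP (l + l))) g}.ncard := by
  classical
  set m := l + l with hm
  have hQ := formP_nondeg m
  -- the commuting pairs
  set P2 := {p : (Fin m ⊕ Fin m → ZMod 2) × (Fin m ⊕ Fin m → ZMod 2) |
    formP m p.1 = 1 ∧ formP m p.2 = 1 ∧ p.2 ≠ p.1 ∧ polar (⇑(formP m)) p.1 p.2 = 0}
  have hpairs : {p : ↥(Cfsg.isometryGroup (ZMod 2) ⇑(formP m)) × ↥(Cfsg.isometryGroup (ZMod 2) ⇑(formP m)) |
      p.1 ∈ TS (formP m) ∧ p.2 ∈ TS (formP m) ∧ p.1 ≠ p.2 ∧ Commute p.1 p.2}.ncard ≤ P2.ncard := by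
    refine le_trans (Set.ncard_le_ncard ?_ (Set.toFinite _))
      (Set.ncard_image_le (f := fun p => (OrthTwo.tt (formP m) p.1, OrthTwo.tt (formP m) p.2)) (Set.toFinite P2))
    rintro ⟨g, h⟩ ⟨hg, hh, hne, hc⟩
    obtain ⟨u, hu, rfl⟩ := (OrthTwo.rank_iff hQ g).mp hg
    obtain ⟨v, hv, rfl⟩ := (OrthTwo.rank_iff hQ h).mp hh
    exact ⟨(u, v), ⟨hu, hv, fun e => hne (by rw [show v = u from e]), tt_commute hQ hu hv hc⟩, rfl⟩
  set A := {u : Fin m ⊕ Fin m → ZMod 2 | formP m u = 1}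
  have hbound : 8 * P2.ncard < 2 ^ (4 * m) := by
    have hN := nonsingular_card m
    have hfib : 4 * P2.ncard + 4 * A.ncard ≤ A.ncard * 2 ^ (2 * m) := by
      have e : P2 = ⋃ u ∈ A.toFinset, (fun v => (u, v)) ''
          {v : Fin m ⊕ Fin m → ZMod 2 | formP m v = 1 ∧ v ≠ u ∧ polar (⇑(formP m)) u v = 0} := by
        ext ⟨u, v⟩
        simp [P2, A]
        tauto
      have h1 : P2.ncard ≤ ∑ u ∈ A.toFinset,
          {v : Fin m ⊕ Fin m → ZMod 2 | formP m v = 1 ∧ v ≠ u ∧ polar (⇑(formP m)) u v = 0}.ncard := by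
        rw [e]
        refine (Finset.set_ncard_biUnion_le _ _).trans (Finset.sum_le_sum fun u _ => ?_)
        exact Set.ncard_image_le (Set.toFinite _)
      have h2 : ∑ u ∈ A.toFinset,
          4 * ({v : Fin m ⊕ Fin m → ZMod 2 | formP m v = 1 ∧ v ≠ u ∧ polar (⇑(formP m)) u v = 0}.ncard + 1) ≤
          ∑ u ∈ A.toFinset, 2 ^ (2 * m) := Finset.sum_le_sum fun u hu => partner_card (show formP m u = 1 from (Set.mem_toFinset (s := A)).mp hu)
      rw [Finset.sum_const, smul_eq_mul, ← Finset.mul_sum, Finset.sum_add_distrib, Finset.sum_const, smul_eq_mul,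
        mul_one, ← Set.ncard_eq_toFinset_card'] at h2
      linarith
    have h4 : 2 ^ (4 * m) = 2 ^ (2 * m) * 2 ^ (2 * m) := by rw [← pow_add]; ring_nf
    have hA0 : 0 < A.ncard := by
      refine (Set.ncard_pos (Set.toFinite A)).mpr
        ⟨Pi.single (Sum.inl ⟨0, by omega⟩) 1 + Pi.single (Sum.inr ⟨0, by omega⟩) 1, ?_⟩
      show formP m _ = 1
      rw [plus_dot]
      simp [dotProduct, Pi.single_apply]
    have h5 := Nat.mul_le_mul_right (2 ^ (2 * m)) hN
    nlinarith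
  -- the family
  let g : ((Up m → ZMod 2) × (Up l → ZMod 2) × (Up l → ZMod 2)) →
      ↥(Cfsg.isometryGroup (ZMod 2) ⇑(formP m)) := fun p =>
    (gmat_spec (upper p.1 + (upper p.1)ᵀ) (blockAlt p.2.1 p.2.2 + (blockAlt p.2.1 p.2.2)ᵀ) (alt_form _)
      (alt_form _)).choose
  have hg : ∀ p x, (g p).1.1 *ᵥ x = x + dmap (upper p.1 + (upper p.1)ᵀ)
      (blockAlt p.2.1 p.2.2 + (blockAlt p.2.1 p.2.2)ᵀ) x := fun p => by
    exact (gmat_spec (upper p.1 + (upper p.1)ᵀ) (blockAlt p.2.1 p.2.2 + (blockAlt p.2.1 p.2.2)ᵀ) (alt_form _)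
      (alt_form _)).choose_spec
  have hmover : ∀ p, IsMover (TS (formP m)) (g p) := by
    intro p
    set β := upper p.1 + (upper p.1)ᵀ
    set α := blockAlt p.2.1 p.2.2 + (blockAlt p.2.1 p.2.2)ᵀ
    refine ⟨iso_ext _ fun x => ?_, fun t ht => ?_⟩
    · rw [iso_mul, iso_one, hg, hg, map_add, dmap_sq, add_zero, add_cancel']
    obtain ⟨u, hu, rfl⟩ := (OrthTwo.rank_iff hQ t).mp ht
    set v := (g p).1.1 *ᵥ u with hv
    have hvq : formP m v = 1 := (iso_map _ (g p) u).trans hu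
    rw [show g p * OrthTwo.tt (formP m) u * (g p)⁻¹ = OrthTwo.tt (formP m) v from
      (OrthTwo.tt_spec hu).conj.unique (OrthTwo.tt_spec hvq)]
    obtain ⟨h1, h2⟩ := dmap_form β α (alt_form _) (alt_form _) u
    have hd : dmap β α u ≠ 0 := by
      intro h0
      have hw : α *ᵥ (u ∘ Sum.inr + β *ᵥ (u ∘ Sum.inl)) = 0 := funext fun i => congrFun h0 (Sum.inl i)
      have hz := blockAlt_inj _ _ _ hw
      rw [plus_dot, show u ∘ Sum.inr = β *ᵥ (u ∘ Sum.inl) from eq_of_add_eq_zero hz] at hu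
      exact zero_ne_one ((alt_form _ _).symm.trans hu)
    refine ⟨fun e => hd ?_, commute_of_perp hu hvq ?_⟩
    · have := tt_inj hQ hvq hu e
      rw [hv, hg, add_eq_left] at this
      exact this
    · rw [hv, hg, polar_add_right, (OrthTwo.symp_polar hQ).self u |> fun h => (show polar (⇑(formP m)) u u = 0 from h),
        zero_add, polar, h1, h2, sub_self, zero_sub, neg_zero]
  have hinj : Function.Injective g := by
    rintro ⟨f, a, b⟩ ⟨f', a', b'⟩ e
    set β := upper f + (upper f)ᵀ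
    set β' := upper f' + (upper f')ᵀ
    set α := blockAlt a b + (blockAlt a b)ᵀ
    set α' := blockAlt a' b' + (blockAlt a' b')ᵀ
    have hd : ∀ x, dmap β α x = dmap β' α' x := fun x => by
      have h := hg (f, a, b) x
      rw [e, hg (f', a', b') x, add_right_inj] at h
      exact h.symm
    have hy : ∀ y : Fin m → ZMod 2, α *ᵥ y = α' *ᵥ y ∧ β *ᵥ (α *ᵥ y) = β' *ᵥ (α' *ᵥ y) := by
      intro y
      have hs : (Sum.elim (0 : Fin m → ZMod 2) y) ∘ Sum.inr + β *ᵥ ((Sum.elim (0 : Fin m → ZMod 2) y) ∘ Sum.inl) = y ∧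
          (Sum.elim (0 : Fin m → ZMod 2) y) ∘ Sum.inr + β' *ᵥ ((Sum.elim (0 : Fin m → ZMod 2) y) ∘ Sum.inl) = y := by
        simp
      have h := hd (Sum.elim 0 y)
      have h' : Sum.elim (α *ᵥ y) (β *ᵥ (α *ᵥ y)) = Sum.elim (α' *ᵥ y) (β' *ᵥ (α' *ᵥ y)) := by
        simpa [dmap] using h
      exact ⟨funext fun i => congrFun h' (Sum.inl i), funext fun i => congrFun h' (Sum.inr i)⟩
    have hα : α = α' := Matrix.ext_of_mulVec_single fun i => (hy _).1
    obtain ⟨rfl, rfl⟩ := blockAlt_data hα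
    have hu : Function.Surjective fun y => α *ᵥ y := Finite.injective_iff_surjective.mp fun y y' h => by
      have : α *ᵥ (y + y') = 0 := by
        rw [Matrix.mulVec_add]
        rw [show α *ᵥ y = α *ᵥ y' from h, vadd_self]
      exact eq_of_add_eq_zero (blockAlt_inj _ _ _ this)
    have hβ : β = β' := Matrix.ext_of_mulVec_single fun i => by
      obtain ⟨y, hy'⟩ := hu (Pi.single i 1)
      simp only at hy'
      rw [← hy']
      exact (hy y).2
    rw [alt_upper_inj hβ]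
  refine lt_of_le_of_lt hpairs (lt_of_lt_of_le ?_
    (Set.ncard_le_ncard (s := Set.range g) (by rintro _ ⟨p, rfl⟩; exact hmover p) (Set.toFinite _)))
  rw [Set.ncard_range_of_injective hinj, Nat.card_eq_fintype_card, Fintype.card_prod, Fintype.card_prod,
    Fintype.card_fun, Fintype.card_fun, ZMod.card, ← pow_add, ← pow_add]
  have ha := up_card m
  have hb := up_card l
  have hexp : 4 * m ≤ Fintype.card (Up m) + (Fintype.card (Up l) + Fintype.card (Up l)) + 3 := by
    rw [hm] at ha ⊢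
    nlinarith
  have := Nat.pow_le_pow_right (show 1 ≤ 2 by norm_num) hexp
  rw [pow_add] at this
  linarith

end CfsgFischer.Orth
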