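/-
In dimension eight all movers of a reflection class are conjugate; a large family of movers with moving products
bounds the dimension.
-/
import Cfsg.Agent.Lib.Fischer.Triality.ReflFrames
import Mathlib.LinearAlgebra.Trace

set_option autoImplicit false
set_option linter.unusedSectionVars false

namespace CfsgFischer.Refl

open Cfsg CfsgThreeTrans QuadraticMap CfsgReflClass Matrix CfsgFischer.Triality

variable {n : ℕ} {Q : QuadraticForm K (V n)} {c : K}

variable (hQ : (polarBilin Q).Nondegenerate) (hn : 5 ≤ n) (hc : c ≠ 0)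
include hQ hn hc

/-- A frame of pairs exchanged by a mover. -/
theorem mover_frame {g : ↥(Cfsg.reflectionSubgroup (⇑Q) c)} (hg : IsMover (PR Q c) (QuotientGroup.mk g)) :
    ∃ l, n = 2 * l ∧ ∃ e : Fin l × Bool → V n, (∀ i, Q (e i) = c) ∧ (∀ i j, i ≠ j → B Q (e i) (e j) = 0) ∧
      (∀ j, act g (e (j, false)) = e (j, true)) ∧ ∀ j, act g (e (j, true)) = -e (j, false) := by
  obtain ⟨hsq, hskew⟩ := mover_lift hQ hn hc hg
  obtain ⟨l, hl, f, hf, ho⟩ := exists_adapted hQ hn hc hsq hskew
  refine ⟨l, hl, fun p => if p.2 then act g (f p.1) else f p.1, ?_, ?_, fun j => by simp, fun j => by simp [hsq]⟩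
  · rintro ⟨i, _ | _⟩ <;> simp [hf, act_Q]
  · rintro ⟨i, a⟩ ⟨j, b⟩ hij
    by_cases h : i = j
    · subst h
      cases a <;> cases b <;> simp only [Bool.false_eq_true, ↓reduceIte] <;> first
        | exact absurd rfl hij
        | exact hskew _
        | exact (B_symm Q _ _).trans (hskew _)
    · obtain ⟨h1, h2⟩ := ho i j h
      obtain ⟨-, h3⟩ := ho j i (Ne.symm h)
      cases a <;> cases b <;> simp only [Bool.false_eq_true, ↓reduceIte]
      · exact h1
      · exact h2
      · rw [B_symm]; exact h3
      · rw [act_B]; exact h1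

theorem pr_width_eq {g : ↥(Cfsg.reflectionSubgroup (⇑Q) c)} (hg : IsMover (PR Q c) (QuotientGroup.mk g)) :
    commutingWidth (PR Q c) = n ∧ Even n := by
  obtain ⟨l, hl, e, he, ho, -⟩ := mover_frame hQ hn hc hg
  refine ⟨le_antisymm (pr_width_le hQ hn hc) ?_, ⟨l, by omega⟩⟩
  have := le_pr_width hQ hn hc e he ho
  rwa [Nat.card_prod, Nat.card_fin, Nat.card_eq_fintype_card, Fintype.card_bool, mul_comm, ← hl] at this

/-- In dimension eight the movers form one class. -/
theorem movers_conj (h8 : n = 8) {g g₀ : ↥(Cfsg.reflectionSubgroup (⇑Q) c)}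
    (hg : IsMover (PR Q c) (QuotientGroup.mk g)) (hg₀ : IsMover (PR Q c) (QuotientGroup.mk g₀)) :
    ∃ r, r * g₀ * r⁻¹ = g := by
  classical
  obtain ⟨l, hl, e, he, ho, hadF, hadT⟩ := mover_frame hQ hn hc hg
  obtain ⟨l₀, hl₀, e₀, he₀, ho₀, h0F, h0T⟩ := mover_frame hQ hn hc hg₀
  obtain rfl : l₀ = l := by omega
  have hcard : Nat.card (Fin l₀ × Bool) = n := by
    rw [Nat.card_prod, Nat.card_fin, Nat.card_eq_fintype_card, Fintype.card_bool, hl, mul_comm]
  obtain ⟨p, hp, hpm, hpc⟩ := frame_set hQ hn hc e he ho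
  obtain ⟨p₀, hp₀, hpm₀, hpc₀⟩ := frame_set hQ hn hc e₀ he₀ ho₀
  have hw := (pr_width_eq hQ hn hc hg).1
  obtain ⟨x, hx⟩ := width_conj (pr_class hQ hn hc) (E := Set.range p₀) (E' := Set.range p)
    (by rintro _ ⟨i, rfl⟩; exact (hpm₀ i).1) hpc₀ (by rw [Set.ncard_range_of_injective hp₀, hw, hcard])
    (by rintro _ ⟨i, rfl⟩; exact (hpm i).1) hpc (by rw [Set.ncard_range_of_injective hp, hw, hcard])
  obtain ⟨r, rfl⟩ := QuotientGroup.mk_surjective x
  have hmap : ∀ i, ∃ j, PM (act r (e₀ i)) (e j) := fun i => by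
    obtain ⟨j, hj⟩ : ∃ j, p j = QuotientGroup.mk r * p₀ i * (QuotientGroup.mk r)⁻¹ := by
      have : QuotientGroup.mk r * p₀ i * (QuotientGroup.mk r)⁻¹ ∈ Set.range p := hx ▸ ⟨p₀ i, ⟨i, rfl⟩, rfl⟩
      exact this
    exact ⟨j, ((att_eq hQ hn hc ((act_Q r _).trans (he₀ i)) (he j) (att_conj hQ hn hc (he₀ i) (hpm₀ i).2 r)
      (hpm j).2).mp hj.symm)⟩
  choose π hπ using hmap
  have hπinj : Function.Injective π := fun i j h => by
    by_contra hij
    have h1 := (hπ i).trans (h ▸ (hπ j).symm)
    have h2 := act_pm r⁻¹ h1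
    rw [act_inv, act_inv] at h2
    have h0 := h2.B_zero (e₀ j) |>.mp (ho₀ i j hij)
    rw [B_self, he₀, neg_eq_zero] at h0
    exact hc h0
  set σ : Equiv.Perm (Fin l₀ × Bool) := Equiv.ofBijective π (Finite.injective_iff_bijective.mp hπinj)
  -- an adapted frame reached by an even permutation
  obtain ⟨e', τ, he', ho', had', hadT', hτ, hsig⟩ : ∃ (e' : Fin l₀ × Bool → V n) (τ : Equiv.Perm (Fin l₀ × Bool)),
      (∀ i, Q (e' i) = c) ∧ (∀ i j, i ≠ j → B Q (e' i) (e' j) = 0) ∧
      (∀ j, act g (e' (j, false)) = e' (j, true)) ∧ (∀ j, act g (e' (j, true)) = -e' (j, false)) ∧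
      (∀ i, PM (e i) (e' (τ i))) ∧ Equiv.Perm.sign (τ * σ) = 1 := by
    rcases Int.units_eq_one_or (Equiv.Perm.sign σ) with hs | hs
    · exact ⟨e, 1, he, ho, hadF, hadT, fun i => PM.rfl' _, by rw [one_mul, hs]⟩
    have hl0 : 0 < l₀ := by omega
    set j₀ : Fin l₀ := ⟨0, hl0⟩
    set τ : Equiv.Perm (Fin l₀ × Bool) := Equiv.swap (j₀, false) (j₀, true) with hτ
    set sg : Fin l₀ × Bool → K := fun i => if i = (j₀, true) then -1 else 1 with hsg
    have hsg2 : ∀ i, sg i * sg i = 1 := fun i => by simp only [hsg]; split_ifs <;> simp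
    have hsg0 : ∀ i, sg i ≠ 0 := fun i h => by simpa [h] using hsg2 i
    refine ⟨fun i => sg i • e (τ i), τ, fun i => by rw [Q_smul, hsg2, one_mul, he], fun i j hij => ?_, fun j => ?_,
      fun j => ?_, fun i => ?_, ?_⟩
    · rw [B_smul_l, B_smul_r, ho _ _ (fun h => hij (τ.injective h)), mul_zero, mul_zero]
    · show act g (sg (j, false) • e (τ (j, false))) = sg (j, true) • e (τ (j, true))
      by_cases hj : j = j₀
      · subst hj
        simp [hsg, hτ, hadT]
      · rw [hτ, Equiv.swap_apply_of_ne_of_ne (by simp [hj]) (by simp [hj]),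
          Equiv.swap_apply_of_ne_of_ne (by simp [hj]) (by simp [hj])]
        simp [hsg, hj, hadF]
    · show act g (sg (j, true) • e (τ (j, true))) = -(sg (j, false) • e (τ (j, false)))
      by_cases hj : j = j₀
      · subst hj
        simp [hsg, hτ, hadF, act_neg]
      · rw [hτ, Equiv.swap_apply_of_ne_of_ne (by simp [hj]) (by simp [hj]),
          Equiv.swap_apply_of_ne_of_ne (by simp [hj]) (by simp [hj])]
        simp [hsg, hj, hadT]
    · show PM (e i) (sg (τ i) • e (τ (τ i)))
      rw [hτ, Equiv.swap_apply_self]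
      exact ((PM.rfl' (e i)).smul (hsg0 _)).symm
    · rw [map_mul, hs, hτ, Equiv.Perm.sign_swap (by simp)]
      rfl
  obtain ⟨s, hs⟩ := even_real hQ hn hc e' he' ho'
    (by rw [Fintype.card_prod, Fintype.card_fin, Fintype.card_bool]; omega)
    (π := (τ * σ)⁻¹) (by rw [map_inv, hsig, inv_one])
  have hpm' : ∀ i, PM (act (s * r) (e₀ i)) (e' i) := fun i => by
    rw [act_mul]
    have h1 := act_pm s ((hπ i).trans (hτ (π i)))
    have h2 := hs (τ (π i))
    rw [show (τ * σ)⁻¹ (τ (π i)) = i from (τ * σ).symm_apply_apply i] at h2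
    exact h1.trans h2
  obtain ⟨t, ht⟩ := flips hQ hn hc e' he' ho' (Finset.univ.filter fun i => act (s * r) (e₀ i) = -e' i)
  have hx : ∀ i, act (t * (s * r)) (e₀ i) = e' i := fun i => by
    rw [act_mul]
    rcases hpm' i with h | h
    · rw [h, ht, if_neg]
      rw [Finset.mem_filter]
      rintro ⟨-, h'⟩
      rw [h, eq_neg_iff_add_eq_zero] at h'
      have := he' i
      have h3 : e' i = 0 := by
        calc e' i = (3 : K) • e' i - (e' i + e' i) := by module
          _ = 0 := by rw [h', show (3 : K) = 0 from rfl, zero_smul, sub_zero]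
      rw [h3, QuadraticMap.map_zero] at this
      exact hc this.symm
    · rw [h, act_neg, ht, if_pos (Finset.mem_filter.mpr ⟨Finset.mem_univ i, h⟩), neg_neg]
  refine ⟨t * (s * r), act_ext_frame e' (fun i => by rw [he']; exact hc) ho' hcard fun i => ?_⟩
  rw [act_mul, act_mul]
  conv_lhs => rw [← hx i, act_inv]
  obtain ⟨j, _ | _⟩ := i
  · rw [h0F, hx, had']
  · rw [h0T, act_neg, hx, hadT']

/-- Many movers whose products move bound the dimension. -/
theorem clifford_bound {ι : Type*} [Fintype ι] [DecidableEq ι] (hι : Even (Fintype.card ι))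
    (g : ι → ↥(Cfsg.reflectionSubgroup (⇑Q) c)) (hg : ∀ i, IsMover (PR Q c) (QuotientGroup.mk (g i)))
    (hgg : ∀ i j, i ≠ j → IsMover (PR Q c) (QuotientGroup.mk (g i * g j))) (h3 : ¬ 3 ∣ n) :
    2 ^ Fintype.card ι ≤ n * n := by
  classical
  set A : ι → Module.End K (V n) := fun i => Matrix.mulVecLin (g i).1.1.1 with hA
  have hAx : ∀ i x, A i x = act (g i) x := fun i x => rfl
  have hsq : ∀ i, A i * A i = -1 := fun i => LinearMap.ext fun x => by
    show A i (A i x) = -x
    rw [hAx, hAx, (mover_lift hQ hn hc (hg i)).1]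
  have hanti : ∀ i j, i ≠ j → A i * A j = -(A j * A i) := fun i j hij => by
    have h : (A i * A j) * (A i * A j) = -1 := LinearMap.ext fun x => by
      show A i (A j (A i (A j x))) = -x
      rw [hAx, hAx, hAx, hAx, ← act_mul, ← act_mul, ← act_mul]
      rw [show g i * g j * g i * g j = g i * g j * (g i * g j) by simp only [mul_assoc], act_mul,
        (mover_lift hQ hn hc (hgg i j hij)).1]
    refine LinearMap.ext fun x => ?_
    show A i (A j x) = -(A j (A i x))
    have h1 := LinearMap.congr_fun h (A j (A i x))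
    simp only [Module.End.mul_apply, LinearMap.neg_apply, Module.End.one_apply] at h1
    have hs : ∀ k y, A k (A k y) = -y := fun k y => LinearMap.congr_fun (hsq k) y
    rw [hs j, map_neg, map_neg, map_neg, hs i, map_neg, map_neg, neg_neg] at h1
    exact h1
  have hm1 : ∀ X : Module.End K (V n), (-1 : K) • X = -X := fun X => LinearMap.ext fun x => neg_one_smul K (X x)
  have hnl : ∀ X Y : Module.End K (V n), -X * Y = -(X * Y) := fun X Y => LinearMap.ext fun x => rfl
  have hnr : ∀ X Y : Module.End K (V n), X * -Y = -(X * Y) := fun X Y => LinearMap.ext fun x => map_neg X (Y x)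
  let l : Finset ι → List ι := fun S => S.toList
  let E : Finset ι → Module.End K (V n) := fun S => ((l S).map A).prod
  let sgn : ι → ι → K := fun i j => if i = j then 1 else -1
  have hcomm : ∀ i (L : List ι), A i * (L.map A).prod = (L.map (sgn i)).prod • ((L.map A).prod * A i) := by
    intro i L
    induction L with
    | nil => simp
    | cons j L ih =>
      simp only [List.map_cons, List.prod_cons]
      have h1 : A i * A j = sgn i j • (A j * A i) := by
        by_cases hij : i = j
        · simp [sgn, hij]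
        · simp only [sgn, hij, if_false, hm1, hanti i j hij]
      rw [← mul_assoc, h1, smul_mul_assoc, mul_assoc, ih, mul_smul_comm, smul_smul, mul_assoc]
  let θ : Finset ι → ι → K := fun S i => ((l S).map (sgn i)).prod
  have hθ : ∀ S i, θ S i = (-1) ^ (S.card + if i ∈ S then 1 else 0) := by
    intro S i
    show ((S.toList).map (sgn i)).prod = _
    rw [Finset.prod_map_toList]
    simp only [sgn]
    rw [Finset.prod_ite, Finset.prod_const_one, one_mul, Finset.prod_const]
    have hone : (-1 : K) * -1 = 1 := by decide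
    by_cases h : i ∈ S
    · rw [Finset.filter_ne, Finset.card_erase_of_mem h, if_pos h]
      have := Finset.card_pos.mpr ⟨i, h⟩
      rw [show S.card + 1 = (S.card - 1) + 2 by omega, pow_add, pow_two, hone, mul_one]
    · rw [Finset.filter_ne, Finset.erase_eq_of_notMem h, if_neg h, add_zero]
  have hθ2 : ∀ S i, θ S i * θ S i = 1 := fun S i => by
    rw [hθ, ← pow_add, ← two_mul, pow_mul, show (-1 : K) ^ 2 = 1 by decide, one_pow]
  have hdist : ∀ S T : Finset ι, (∀ i, θ S i = θ T i) → S = T := by
    intro S T h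
    have hne : (-1 : K) ≠ 1 := by decide
    have hpar : ∀ i, (S.card + if i ∈ S then 1 else 0) % 2 = (T.card + if i ∈ T then 1 else 0) % 2 := fun i => by
      have hi := h i
      rw [hθ, hθ, neg_one_pow_eq_pow_mod_two, neg_one_pow_eq_pow_mod_two (n := _ + _)] at hi
      rcases Nat.mod_two_eq_zero_or_one (S.card + if i ∈ S then 1 else 0) with e | e <;>
        rcases Nat.mod_two_eq_zero_or_one (T.card + if i ∈ T then 1 else 0) with e' | e' <;>
        simp only [e, e', pow_zero, pow_one] at hi ⊢ <;> first | rfl | exact absurd hi (by decide) | exact absurd hi.symm (by decide)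
    by_cases hst : S.card % 2 = T.card % 2
    · ext i
      have := hpar i
      split_ifs at this <;> simp_all <;> omega
    · exfalso
      have hST : T = Sᶜ := by
        ext i
        have := hpar i
        rw [Finset.mem_compl]
        split_ifs at this <;> simp_all <;> omega
      obtain ⟨m, hm⟩ := hι
      rw [hST, Finset.card_compl] at hst
      have := Finset.card_le_univ S
      omega
  have hinv : ∀ S, ∃ F : Module.End K (V n), F * E S = 1 ∧ E S * F = 1 := by
    intro S
    refine ⟨(((l S).reverse).map fun i => -A i).prod, ?_⟩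
    have : ∀ L : List ι, ((L.reverse).map fun i => -A i).prod * (L.map A).prod = 1 ∧
        (L.map A).prod * ((L.reverse).map fun i => -A i).prod = 1 := by
      intro L
      induction L with
      | nil => simp
      | cons j L ih =>
        simp only [List.reverse_cons, List.map_append, List.prod_append, List.map_cons, List.map_nil,
          List.prod_cons, List.prod_nil, mul_one]
        constructor
        · rw [mul_assoc, ← mul_assoc (-A j), hnl, hsq, neg_neg, one_mul, ih.1]
        · rw [mul_assoc, ← mul_assoc (L.map A).prod, ih.2, one_mul, hnr, hsq, neg_neg]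
    exact this _
  choose F hF using hinv
  have htr : ∀ S T, S ≠ T → LinearMap.trace K (V n) (F S * E T) = 0 := by
    intro S T hST
    obtain ⟨i, hi⟩ : ∃ i, θ S i ≠ θ T i := by
      by_contra hcon; push Not at hcon; exact hST (hdist S T hcon)
    have hE : ∀ S, A i * E S = θ S i • (E S * A i) := fun S => hcomm i (l S)
    have hFc : A i * F S = θ S i • (F S * A i) := by
      calc A i * F S = (F S * E S) * (A i * F S) := by rw [(hF S).1, one_mul]
        _ = F S * (E S * A i) * F S := by simp only [mul_assoc]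
        _ = F S * (θ S i • (A i * E S)) * F S := by rw [hE S, smul_smul, hθ2, one_smul]
        _ = θ S i • (F S * A i * (E S * F S)) := by
          simp only [mul_smul_comm, smul_mul_assoc, mul_assoc]
        _ = θ S i • (F S * A i) := by rw [(hF S).2, mul_one]
    set X := F S * E T with hX
    have hAX : A i * X = (θ S i * θ T i) • (X * A i) := by
      rw [hX, ← mul_assoc, hFc, smul_mul_assoc, mul_assoc, hE T, mul_smul_comm, smul_smul, mul_assoc]
    have hm : θ S i * θ T i = -1 :=
      (by decide : ∀ a b : K, a * a = 1 → b * b = 1 → a ≠ b → a * b = -1) _ _ (hθ2 S i) (hθ2 T i) hi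
    rw [hm, hm1] at hAX
    have h1 : LinearMap.trace K (V n) (A i * X * -A i) = LinearMap.trace K (V n) X := by
      rw [LinearMap.trace_mul_comm, ← mul_assoc, hnl, hsq, neg_neg, one_mul]
    rw [hAX, hnl, hnr, neg_neg, mul_assoc, hsq, hnr, mul_one, map_neg] at h1
    exact (by decide : ∀ a : K, -a = a → a = 0) _ h1
  have hind : LinearIndependent K E := by
    rw [Fintype.linearIndependent_iff]
    intro a ha S
    have := congrArg (fun X => LinearMap.trace K (V n) (F S * X)) ha
    simp only [Finset.mul_sum, mul_smul_comm, map_sum, map_smul, mul_zero, map_zero] at this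
    rw [Finset.sum_eq_single S (fun T _ hT => by rw [htr S T (Ne.symm hT), smul_zero])
      (fun h => absurd (Finset.mem_univ S) h), (hF S).1, LinearMap.trace_one, Module.finrank_fin_fun,
      smul_eq_mul] at this
    refine (mul_eq_zero.mp this).resolve_right fun e => h3 ((ZMod.natCast_eq_zero_iff _ _).mp e)
  have := hind.fintype_card_le_finrank
  rwa [Fintype.card_finset, Module.finrank_linearMap, Module.finrank_fin_fun] at this

end CfsgFischer.Refl
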