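/-
The width of a fibre is a power of two: the products of pairs from a maximal commuting set of another fibre act
regularly on a maximal commuting set which they leave invariant.
-/
import Cfsg.Agent.Lib.Fischer.Triality.Fibres
import Cfsg.Agent.Lib.ThreeTrans.Elementary

set_option autoImplicit false

namespace CfsgFischer.Triality

open Cfsg CfsgLib CfsgThreeTrans

universe u

variable {G : Type u} [Group G] [Finite G] {D : Set G}

theorem width_pow_two (hG : Good D) (hdisc : ¬ (commutingGraph D).Connected) {a : G} (ha : a ∈ D) :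
    ∃ r : ℕ, commutingWidth (Fs D a) = 2 ^ r := by
  classical
  haveI : Fact (Nat.Prime 2) := ⟨Nat.prime_two⟩
  obtain ⟨b, hb, hba⟩ := exists_other hG hdisc ha
  have hDa := cls_group (fs_class hG ha)
  -- a maximal commuting set in the fibre of `b`
  obtain ⟨T₀⟩ : Nonempty (Sylow 2 ↥(Gr D a)) := inferInstance
  obtain ⟨hc₀, hn₀⟩ := sylow_width hDa T₀
  obtain ⟨g, hg⟩ := cls_exists_conj hG.cls ha hb
  set A : Set G := (fun x => g * x * g⁻¹) '' (Subtype.val '' {x : ↥(Gr D a) | x ∈ Fs D a ∧ x ∈ T₀}) with hA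
  have hAn : A.ncard = commutingWidth (Fs D a) := by
    rw [hA, Set.ncard_image_of_injective _ (cj_injective g), Set.ncard_image_of_injective _ Subtype.val_injective,
      hn₀]
  have hAb : A ⊆ Fib D b := by
    rintro _ ⟨_, ⟨x, hx, rfl⟩, rfl⟩
    exact hg ▸ fib_cj hG.cls g hx.1
  have hAc : ∀ x ∈ A, ∀ y ∈ A, Commute x y := by
    rintro _ ⟨_, ⟨x, hx, rfl⟩, rfl⟩ _ ⟨_, ⟨y, hy, rfl⟩, rfl⟩
    haveI := hc₀
    have h := congrArg Subtype.val (mul_comm' (⟨x, Subgroup.subset_closure hx⟩ : Subgroup.closure _)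
      ⟨y, Subgroup.subset_closure hy⟩)
    exact (commute_cj_iff g).mpr (congrArg Subtype.val h)
  have hAD : ∀ x ∈ A, x ∈ D := fun x hx => (hAb hx).1
  -- the products of pairs
  set S : Set ↥(Gr D a) := {z | ∃ x ∈ A, ∃ x' ∈ A, (z : G) = x * x'} with hS
  have hSL : ∀ x ∈ A, ∀ x' ∈ A, x * x' ∈ layer G := fun x hx x' hx' =>
    mul_mem_layer hG.cls (hD2 hG) (h2 hG) (h3 hG) (hAD x hx) (hAD x' hx') (hAc x hx x' hx')
  have hmem : ∀ x ∈ A, ∀ x' ∈ A, x * x' ∈ Gr D a := fun x hx x' hx' => layer_le_gr hG ha (hSL x hx x' hx')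
  have hScomm : ∀ z ∈ S, ∀ z' ∈ S, Commute z z' := by
    rintro z ⟨x, hx, x', hx', hz⟩ z' ⟨y, hy, y', hy', hz'⟩
    refine Subtype.ext ?_
    show (z : G) * z' = z' * z
    rw [hz, hz']
    exact (((hAc x hx y hy).mul_right (hAc x hx y' hy')).mul_left
      ((hAc x' hx' y hy).mul_right (hAc x' hx' y' hy'))).eq
  haveI : IsMulCommutative (Subgroup.closure S) := Subgroup.isMulCommutative_closure hScomm
  have hp : IsPGroup 2 (Subgroup.closure S) := by
    intro z
    refine ⟨1, ?_⟩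
    obtain ⟨z, hz⟩ := z
    refine Subtype.ext ?_
    rw [Subgroup.coe_pow, pow_one, sq, Subgroup.coe_one]
    refine Subgroup.closure_induction (p := fun y _ => y * y = 1) ?_ (mul_one _) ?_ ?_ hz
    · rintro y ⟨x, hx, x', hx', hy⟩
      refine Subtype.ext ?_
      show (y : G) * y = 1
      rw [hy, ← sq]
      exact sq_of_commute hG.cls.1 (hAD x hx) (hAD x' hx') (hAc x hx x' hx')
    · intro a b ha' hb' h1 h2'
      have hcm : Commute a b := congrArg Subtype.val (mul_comm' (⟨a, ha'⟩ : Subgroup.closure S) ⟨b, hb'⟩)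
      rw [← sq, hcm.mul_pow, sq, sq, h1, h2', mul_one]
    · intro a _ h1; rw [← mul_inv_rev, h1, inv_one]
  obtain ⟨T, hT⟩ := hp.exists_le_sylow
  obtain ⟨hcT, hnT⟩ := sylow_width hDa T
  set B : Set ↥(Gr D a) := {x | x ∈ Fs D a ∧ x ∈ T} with hB
  have hBne : B.Nonempty := by
    refine Set.nonempty_of_ncard_ne_zero ?_
    rw [hnT]
    intro h0
    have h1 : ({⟨a, Subgroup.subset_closure (self_mem ha)⟩} : Set ↥(Gr D a)).ncard ≤ commutingWidth (Fs D a) :=
      le_csSup ⟨Nat.card ↥(Gr D a), by rintro n ⟨E, -, -, -, rfl⟩; exact Set.ncard_le_card _⟩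
        ⟨_, Set.singleton_subset_iff.mpr (self_mem ha), Set.toFinite _,
          fun x hx y hy => by rw [Set.mem_singleton_iff.mp hx, Set.mem_singleton_iff.mp hy]; exact Commute.refl _, rfl⟩
    rw [h0, Set.ncard_singleton] at h1
    omega
  obtain ⟨y, hy⟩ := hBne
  have hAne : A.Nonempty := Set.nonempty_of_ncard_ne_zero (by
    rw [hAn, ← hnT]; exact (Set.ncard_pos (Set.toFinite _)).mpr ⟨y, hy⟩ |>.ne')
  obtain ⟨x₀, hx₀⟩ := hAne
  letI : MulAction ↥(Subgroup.closure S) ↥(Gr D a) :=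
    MulAction.compHom _ ((MulAut.conj : ↥(Gr D a) →* MulAut ↥(Gr D a)).comp (Subgroup.closure S).subtype)
  have hsmul : ∀ (z : ↥(Subgroup.closure S)) (w : ↥(Gr D a)), z • w = (z : ↥(Gr D a)) * w * (z : ↥(Gr D a))⁻¹ :=
    fun _ _ => rfl
  have horb : MulAction.orbit ↥(Subgroup.closure S) y ⊆ B := by
    rintro _ ⟨z, rfl⟩
    show z • y ∈ B
    rw [hsmul]
    exact ⟨fib_cj_self hG.cls (z : ↥(Gr D a)).2 hy.1, mul_mem (mul_mem (hT z.2) hy.2) (inv_mem (hT z.2))⟩
  have hne : ∀ x ∈ A, ∀ x' ∈ A, x ≠ x' → ¬ Commute (x * x') (y : G) := by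
    intro x hx x' hx' hne hcm
    have hyb : (y : G) ∉ Fib D b := fun h => hba (by
      rw [← fib_eq hy.1, fib_eq h]; exact self_mem hb)
    refine (moves hG (hAb hx) (hAb hx') hy.1.1 hyb hne (hAc x hx x' hx')).1 ?_
    rw [hcm.eq, mul_inv_cancel_right]
  have hle : A.ncard ≤ (MulAction.orbit ↥(Subgroup.closure S) y).ncard := by
    refine Set.ncard_le_ncard_of_injOn (fun x => if h : x ∈ A then
      (⟨⟨x₀ * x, hmem x₀ hx₀ x h⟩, Subgroup.subset_closure ⟨x₀, hx₀, x, h, rfl⟩⟩ : ↥(Subgroup.closure S)) • y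
      else y) ?_ ?_ (Set.toFinite _)
    · intro x hx
      simp only [dif_pos hx]
      exact MulAction.mem_orbit _ _
    · intro x hx x' hx' e
      simp only [dif_pos hx, dif_pos hx', hsmul] at e
      by_contra hxx
      refine hne x hx x' hx' hxx ?_
      have e' : (x₀ * x) * (y : G) * (x₀ * x)⁻¹ = (x₀ * x') * (y : G) * (x₀ * x')⁻¹ := congrArg Subtype.val e
      have hx₀2 := mul_self hG.cls.1 (hAD x₀ hx₀)
      rw [← cj_cj x₀ x, ← cj_cj x₀ x'] at e'
      have e'' : x * (y : G) * x⁻¹ = x' * (y : G) * x'⁻¹ := cj_injective x₀ e'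
      rw [inv_self hG.cls.1 (hAD x hx), inv_self hG.cls.1 (hAD x' hx')] at e''
      show x * x' * (y : G) = (y : G) * (x * x')
      have := congrArg (fun t => x * t * x') e''
      simp only [← mul_assoc, mul_self hG.cls.1 (hAD x hx), one_mul] at this
      rw [mul_assoc (x * x' * (y : G)), mul_self hG.cls.1 (hAD x' hx'), mul_one] at this
      rw [← this, mul_assoc]
  obtain ⟨r, hr⟩ := hp.card_orbit (α := ↥(Gr D a)) y
  refine ⟨r, le_antisymm ?_ ?_⟩
  · rw [← hr, Nat.card_coe_set_eq, ← hAn]; exact hle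
  · rw [← hr, Nat.card_coe_set_eq, ← hnT]; exact Set.ncard_le_ncard horb (Set.toFinite _)

end CfsgFischer.Triality
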