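/-
The kind of a fibre when the commuting graph is disconnected: transvections of the hyperbolic form in dimension eight
over two elements, or reflections in dimension eight over three elements; in both cases the movers form one class.
-/
import Cfsg.Agent.Lib.Fischer.Induction
import Cfsg.Agent.Lib.Fischer.Triality.Width
import Cfsg.Agent.Lib.Fischer.Triality.ReflConj
import Cfsg.Agent.Lib.Fischer.Triality.OrthCount
import Cfsg.Agent.Lib.Fischer.Triality.EightThree
import Cfsg.Agent.S5373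
import Cfsg.Agent.S5374
import Cfsg.Agent.S5375
import Cfsg.Agent.S5401

set_option autoImplicit false
set_option linter.unusedSectionVars false
set_option maxHeartbeats 400000

namespace CfsgFischer.Triality

open Cfsg CfsgLib CfsgThreeTrans QuadraticMap

universe u v

theorem gr_mem {G : Type u} [Group G] {D : Set G} (hD : IsThreeTranspositionClass D) {a : G} (ha : a ∈ D) {g : G}
    (hg : g ∈ Gr D a) : g ∈ layer G ∨ a * g ∈ layer G := by
  have hcl : ∀ g h : G, (g ∈ layer G ∨ a * g ∈ layer G) → (h ∈ layer G ∨ a * h ∈ layer G) →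
      (g * h ∈ layer G ∨ a * (g * h) ∈ layer G) := by
    intro g h hg hh
    have haa := mul_self hD.1 ha
    have hcj : ∀ z ∈ layer G, a * z * a ∈ layer G := fun z hz => by
      have := (inferInstance : (layer G).Normal).conj_mem _ hz a
      rwa [inv_self hD.1 ha] at this
    rcases hg with hg | hg <;> rcases hh with hh | hh
    · exact Or.inl (mul_mem hg hh)
    · refine Or.inr ?_
      have := mul_mem (hcj g hg) hh
      simp only [mul_assoc] at this ⊢
      rwa [← mul_assoc a a, haa, one_mul] at this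
    · exact Or.inr (by rw [← mul_assoc]; exact mul_mem hg hh)
    · refine Or.inl ?_
      have := mul_mem (hcj _ hg) hh
      simp only [mul_assoc] at this
      rwa [← mul_assoc a a, haa, one_mul, ← mul_assoc a a, haa, one_mul] at this
  have hs : ∀ s ∈ Fib D a, a * s ∈ layer G := fun s hs => by
    have := hs.2
    rwa [inv_self hD.1 ha] at this
  refine Subgroup.closure_induction'' (p := fun g _ => g ∈ layer G ∨ a * g ∈ layer G) (fun s h => Or.inr (hs s h))
    (fun s h => Or.inr (by rw [inv_self hD.1 h.1]; exact hs s h)) (Or.inl (one_mem _))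
    (fun g h _ _ hg hh => hcl g h hg hh) hg

variable {G : Type u} [Group G] [Finite G] {D : Set G}

theorem width_image {K : Type v} [Group K] [Finite K] {X : Type u} [Group X] [Finite X] {E : Set X} {T : Set K}
    (e : X ≃* K) (he : e '' E = T) : commutingWidth E = commutingWidth T := by
  subst he
  refine le_antisymm (Refl.width_le _ fun A hA hc => ?_) (Refl.width_le _ fun A hA hc => ?_)
  · rw [← Set.ncard_image_of_injective A e.injective]
    refine Refl.le_width (Set.image_mono hA) ?_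
    rintro _ ⟨x, hx, rfl⟩ _ ⟨y, hy, rfl⟩
    exact (hc x hx y hy).map e.toMonoidHom
  · rw [← Set.ncard_image_of_injective A e.symm.injective]
    refine Refl.le_width ?_ ?_
    · rintro _ ⟨x, hx, rfl⟩
      obtain ⟨p, hp, rfl⟩ := hA hx
      rwa [MulEquiv.symm_apply_apply]
    · rintro _ ⟨x, hx, rfl⟩ _ ⟨y, hy, rfl⟩
      exact (hc x hx y hy).map e.symm.toMonoidHom

/-- All movers of a class are conjugate. -/
def OneClass {X : Type u} [Group X] (E : Set X) : Prop :=
  ∀ h h₀ : X, IsMover E h → IsMover E h₀ → ∃ g, g * h₀ * g⁻¹ = h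

theorem OneClass.of_equiv {X : Type u} [Group X] {K : Type v} [Group K] {E : Set X} {T : Set K} (e : X ≃* K)
    (he : e '' E = T) (hT : ∀ h h₀ : K, IsMover T h → IsMover T h₀ → ∃ g, g * h₀ * g⁻¹ = h) : OneClass E := by
  intro h h₀ hh hh₀
  obtain ⟨g, hg⟩ := hT _ _ (hh.map e he) (hh₀.map e he)
  exact ⟨e.symm g, e.injective (by rw [map_mul, map_mul, map_inv, e.apply_symm_apply, hg])⟩

/-- The products of commuting pairs in a fibre. -/
def Prods (D : Set G) (b : G) : Set G :=
  {z | ∃ x ∈ Fib D b, ∃ x' ∈ Fib D b, x ≠ x' ∧ Commute x x' ∧ z = x * x'}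

/-- The ordered commuting pairs of a fibre. -/
def Pairs (D : Set G) (b : G) : Set (G × G) :=
  {p | p.1 ∈ Fib D b ∧ p.2 ∈ Fib D b ∧ p.1 ≠ p.2 ∧ Commute p.1 p.2}

theorem prods_le (b : G) : 2 * (Prods D b).ncard ≤ (Pairs D b).ncard := by
  classical
  haveI := Fintype.ofFinite (G × G)
  have e : Prods D b = (fun p : G × G => p.1 * p.2) '' Pairs D b := by
    ext z
    constructor
    · rintro ⟨x, hx, x', hx', hne, hc, rfl⟩
      exact ⟨(x, x'), ⟨hx, hx', hne, hc⟩, rfl⟩
    · rintro ⟨⟨x, x'⟩, ⟨hx, hx', hne, hc⟩, rfl⟩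
      exact ⟨x, hx, x', hx', hne, hc, rfl⟩
  rw [e, Set.ncard_eq_toFinset_card', Set.ncard_eq_toFinset_card', Set.toFinset_image]
  refine Finset.mul_card_image_le_card _ 2 fun z hz => ?_
  obtain ⟨⟨x, x'⟩, hp, rfl⟩ := Finset.mem_image.mp hz
  rw [Set.mem_toFinset] at hp
  obtain ⟨hx, hx', hne, hc⟩ := hp
  refine Finset.one_lt_card.mpr ⟨(x, x'), ?_, (x', x), ?_, fun h => hne (Prod.ext_iff.mp h).1⟩
  · exact Finset.mem_filter.mpr ⟨Set.mem_toFinset.mpr ⟨hx, hx', hne, hc⟩, rfl⟩
  · exact Finset.mem_filter.mpr ⟨Set.mem_toFinset.mpr ⟨hx', hx, hne.symm, hc.symm⟩, hc.symm.eq⟩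

theorem pairs_le (hD : IsThreeTranspositionClass D) {a b : G} (ha : a ∈ D) (hb : b ∈ D) {K : Type v} [Group K]
    [Finite K] {T : Set K} (e : ↥(Gr D a) ≃* K) (he : e '' Fs D a = T) :
    (Pairs D b).ncard ≤ {p : K × K | p.1 ∈ T ∧ p.2 ∈ T ∧ p.1 ≠ p.2 ∧ Commute p.1 p.2}.ncard := by
  classical
  obtain ⟨g, rfl⟩ := cls_exists_conj hD hb ha
  refine Set.ncard_le_ncard_of_injOn (fun p =>
    if h : g * p.1 * g⁻¹ ∈ Gr D (g * b * g⁻¹) ∧ g * p.2 * g⁻¹ ∈ Gr D (g * b * g⁻¹) then
      (e ⟨_, h.1⟩, e ⟨_, h.2⟩) else (1, 1)) ?_ ?_ (Set.toFinite _)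
  · intro p hp
    have h1 := fib_cj hD g hp.1
    have h2 := fib_cj hD g hp.2.1
    rw [dif_pos ⟨Subgroup.subset_closure h1, Subgroup.subset_closure h2⟩]
    refine ⟨he ▸ Set.mem_image_of_mem e (show (⟨_, _⟩ : ↥(Gr D (g * b * g⁻¹))) ∈ Fs D _ from h1),
      he ▸ Set.mem_image_of_mem e (show (⟨_, _⟩ : ↥(Gr D (g * b * g⁻¹))) ∈ Fs D _ from h2),
      fun h => hp.2.2.1 (cj_injective g (congrArg Subtype.val (e.injective h))), ?_⟩
    have hcm : Commute (⟨_, Subgroup.subset_closure h1⟩ : ↥(Gr D (g * b * g⁻¹))) ⟨_, Subgroup.subset_closure h2⟩ :=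
      Subtype.ext ((commute_cj_iff g).mpr hp.2.2.2).eq
    exact hcm.map e.toMonoidHom
  · intro p hp q hq h
    simp only at h
    rw [dif_pos ⟨Subgroup.subset_closure (fib_cj hD g hp.1), Subgroup.subset_closure (fib_cj hD g hp.2.1)⟩,
      dif_pos ⟨Subgroup.subset_closure (fib_cj hD g hq.1), Subgroup.subset_closure (fib_cj hD g hq.2.1)⟩] at h
    obtain ⟨h1, h2⟩ := Prod.ext_iff.mp h
    exact Prod.ext (cj_injective g (congrArg Subtype.val (e.injective h1)))
      (cj_injective g (congrArg Subtype.val (e.injective h2)))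

variable (hG : Good D)
include hG

/-- If the movers form one class they come from two fibres. -/
theorem cover {a b : G} (ha : a ∈ D) (hb : b ∈ D) (hba : b ∉ Fib D a) (h1 : OneClass (Fs D a))
    {z : ↥(Gr D a)} (hz : IsMover (Fs D a) z) :
    (z : G) ∈ Prods D b ∨ a * (z : G) * a ∈ Prods D b := by
  obtain ⟨x, hx, x', hx', hne, hc⟩ := exists_pair hG hb
  obtain ⟨h₀, hval, hh₀⟩ := mover_of_pair hG ha hb hba hx hx' hne hc
  obtain ⟨g, rfl⟩ := h1 z h₀ hz hh₀
  have hconj : ∀ l ∈ layer G, l * (x * x') * l⁻¹ ∈ Prods D b := fun l hl =>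
    ⟨_, fib_cj_layer hG.cls hl hx, _, fib_cj_layer hG.cls hl hx', fun h => hne (cj_injective l h),
      (commute_cj_iff l).mpr hc, by group⟩
  have hzval : ((g * h₀ * g⁻¹ : ↥(Gr D a)) : G) = (g : G) * (x * x') * (g : G)⁻¹ := by
    rw [Subgroup.coe_mul, Subgroup.coe_mul, Subgroup.coe_inv, hval]
  rw [hzval]
  rcases gr_mem hG.cls ha g.2 with hg | hg
  · exact Or.inl (hconj _ hg)
  · refine Or.inr ?_
    have := hconj _ hg
    rw [mul_inv_rev, inv_self hG.cls.1 ha] at this
    simpa only [mul_assoc] using this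

/-- Commuting families of the full width in any fibre. -/
theorem commuting_family {a b : G} (ha : a ∈ D) (hb : b ∈ D) :
    ∃ x : Fin (commutingWidth (Fs D a)) → G, Function.Injective x ∧ (∀ i, x i ∈ Fib D b) ∧
      ∀ i j, Commute (x i) (x j) := by
  classical
  obtain ⟨T₀⟩ : Nonempty (Sylow 2 ↥(Gr D a)) := inferInstance
  obtain ⟨hc₀, hn₀⟩ := sylow_width (cls_group (fs_class hG ha)) T₀
  obtain ⟨g, hg⟩ := cls_exists_conj hG.cls ha hb
  set A : Set ↥(Gr D a) := {x : ↥(Gr D a) | x ∈ Fs D a ∧ x ∈ T₀}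
  let eA : Fin (commutingWidth (Fs D a)) ≃ A :=
    ((finCongr (by rw [← hn₀, Nat.card_coe_set_eq])).trans (Finite.equivFin A).symm)
  refine ⟨fun i => g * ((eA i).1 : G) * g⁻¹, fun i j h => ?_, fun i => hg ▸ fib_cj hG.cls g (eA i).2.1, fun i j => ?_⟩
  · exact eA.injective (Subtype.ext (Subtype.ext (cj_injective g h)))
  · haveI := hc₀
    have h := congrArg Subtype.val (mul_comm' (⟨(eA i).1, Subgroup.subset_closure (eA i).2⟩ : Subgroup.closure A)
      ⟨(eA j).1, Subgroup.subset_closure (eA j).2⟩)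
    exact (commute_cj_iff g).mpr (congrArg Subtype.val h)

variable (hdisc : ¬ (commutingGraph D).Connected)
include hdisc

theorem orth_plus {a : G} (ha : a ∈ D) {m : ℕ} (hm : 4 ≤ m)
    (e : ↥(Gr D a) ≃* ↥(Cfsg.isometryGroup (ZMod 2) ⇑(formP m))) (he : e '' Fs D a = Orth.TS (formP m)) :
    m = 4 ∧ OneClass (Fs D a) := by
  classical
  have hQ := formP_nondeg m
  have hdim : 8 ≤ Fintype.card (Fin m ⊕ Fin m) := by simp; omega
  have h1 : OneClass (Fs D a) := OneClass.of_equiv e he fun h h₀ hh hh₀ => Orth.movers_conj hQ hdim hh hh₀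
  obtain ⟨z, hz⟩ := exists_mover hG hdisc ha
  obtain ⟨s1, s2, s3, s4, s5⟩ := Orth.mover_lift hQ hdim (hz.map e he)
  obtain ⟨k, hk, -⟩ := Orth.exists_adapted hQ s1 s2 s3 s4 s5
  simp only [Fintype.card_sum, Fintype.card_fin] at hk
  refine ⟨?_, h1⟩
  by_contra hne
  obtain rfl : m = k + k := by omega
  obtain ⟨b, hb, hba⟩ := exists_other hG hdisc ha
  have hsub : Subtype.val '' {z : ↥(Gr D a) | IsMover (Fs D a) z} ⊆
      Prods D b ∪ (fun w => a * w * a) '' Prods D b := by
    rintro _ ⟨z, hz, rfl⟩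
    rcases cover hG ha hb hba h1 hz with h | h
    · exact Or.inl h
    · refine Or.inr ⟨_, h, ?_⟩
      have haa := mul_self hG.cls.1 ha
      show a * (a * (z : G) * a) * a = z
      simp only [mul_assoc]
      rw [haa, mul_one, ← mul_assoc, haa, one_mul]
  have hmov : {g : ↥(Cfsg.isometryGroup (ZMod 2) ⇑(formP (k + k))) | IsMover (Orth.TS (formP (k + k))) g} =
      e '' {z | IsMover (Fs D a) z} := by
    ext g
    constructor
    · intro hg
      refine ⟨e.symm g, ?_, e.apply_symm_apply g⟩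
      refine hg.map e.symm ?_
      rw [← he, Set.image_image]
      simp
    · rintro ⟨z, hz, rfl⟩
      exact hz.map e he
  have h2 := Orth.movers_many (l := k) (by omega)
  rw [hmov, Set.ncard_image_of_injective _ e.injective,
    ← Set.ncard_image_of_injective _ (Subtype.val_injective (p := fun g : G => g ∈ Gr D a))] at h2
  have h3 := (Set.ncard_le_ncard hsub (Set.toFinite _)).trans (Set.ncard_union_le _ _)
  have h4 := Set.ncard_image_le (f := fun w => a * w * a) (Set.toFinite (Prods D b))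
  have h5 := (prods_le (D := D) b).trans (pairs_le hG.cls ha hb e he)
  omega

theorem refl_eight {a : G} (ha : a ∈ D) {n : ℕ} (hn : 5 ≤ n) {c : ZMod 3} (hc : c ≠ 0)
    {Q : QuadraticForm (ZMod 3) (Fin n → ZMod 3)} (hQ : (polarBilin Q).Nondegenerate)
    (e : ↥(Gr D a) ≃* ↥(Cfsg.reflectionSubgroup (⇑Q) c) ⧸ Subgroup.center ↥(Cfsg.reflectionSubgroup (⇑Q) c))
    (he : e '' Fs D a = Refl.PR Q c) :
    n = 8 ∧ OneClass (Fs D a) ∧ Nonempty (↥(commutator ↥(Gr D a)) ≃*
      Cfsg.POmega (ZMod 3) (Cfsg.quadFormPlus 4 (ZMod 3))) := by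
  classical
  obtain ⟨z, hz⟩ := exists_mover hG hdisc ha
  obtain ⟨g, hg⟩ := QuotientGroup.mk_surjective (e z)
  have hgm : IsMover (Refl.PR Q c) (QuotientGroup.mk g) := hg ▸ hz.map e he
  obtain ⟨hw, hev⟩ := Refl.pr_width_eq hQ hn hc hgm
  rw [← width_image e he] at hw
  obtain ⟨r, hr⟩ := width_pow_two hG hdisc ha
  rw [hw] at hr
  have hle : n ≤ 8 := by
    by_contra hbig
    obtain ⟨b, hb, hba⟩ := exists_other hG hdisc ha
    obtain ⟨x, hxi, hxf, hxc⟩ := commuting_family hG ha hb (a := a)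
    have hr4 : 4 ≤ r := by
      by_contra hlt
      have := Nat.pow_le_pow_right (show 1 ≤ 2 by norm_num) (show r ≤ 3 by omega)
      omega
    have hn16 : 16 ≤ n := hr ▸ (Nat.pow_le_pow_right (show 1 ≤ 2 by norm_num) hr4 : 2 ^ 4 ≤ 2 ^ r)
    let i₀ : Fin (commutingWidth (Fs D a)) := ⟨0, by omega⟩
    let emb : Fin (n - 2) → Fin (commutingWidth (Fs D a)) := fun j => ⟨j.val + 1, by omega⟩
    have hemb : ∀ j, i₀ ≠ emb j := fun j h => by
      have := congrArg Fin.val h
      simp [i₀, emb] at this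
    choose hh hval hhm using fun i j (h : i ≠ j) =>
      mover_of_pair hG ha hb hba (hxf i) (hxf j) (fun e' => h (hxi e')) (hxc i j)
    let gl : Fin (n - 2) → ↥(Cfsg.reflectionSubgroup (⇑Q) c) := fun j =>
      (QuotientGroup.mk_surjective (e (hh i₀ (emb j) (hemb j)))).choose
    have hgl : ∀ j, (QuotientGroup.mk (gl j) : ↥(Cfsg.reflectionSubgroup (⇑Q) c) ⧸
        Subgroup.center ↥(Cfsg.reflectionSubgroup (⇑Q) c)) = e (hh i₀ (emb j) (hemb j)) := fun j =>
      (QuotientGroup.mk_surjective (e (hh i₀ (emb j) (hemb j)))).choose_spec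
    have h2 : ¬ 3 ∣ n := by
      rw [hr]
      intro h
      exact absurd (Nat.prime_three.dvd_of_dvd_pow h) (by norm_num)
    have hb2 := Refl.clifford_bound hQ hn hc (ι := Fin (n - 2)) (by
        rw [Fintype.card_fin]
        obtain ⟨k, hk⟩ := hev
        exact ⟨k - 1, by omega⟩) gl (fun j => by rw [hgl]; exact (hhm _ _ _).map e he) (fun i j hij => by
      have hne : emb i ≠ emb j := fun h => hij (Fin.ext (by simpa [emb] using congrArg Fin.val h))
      have hprod : hh i₀ (emb i) (hemb i) * hh i₀ (emb j) (hemb j) = hh (emb i) (emb j) hne := by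
        refine Subtype.ext ?_
        rw [Subgroup.coe_mul, hval, hval, hval]
        have h0 := mul_self hG.cls.1 (hxf i₀).1
        rw [(hxc i₀ (emb i)).eq]
        simp only [mul_assoc]
        rw [← mul_assoc (x i₀) (x i₀), h0, one_mul]
      rw [QuotientGroup.mk_mul, hgl, hgl, ← map_mul, hprod]
      exact (hhm _ _ _).map e he) h2
    rw [Fintype.card_fin] at hb2
    have hgrow : ∀ m, 14 ≤ m → (m + 2) * (m + 2) < 2 ^ m := by
      intro m hm
      induction m, hm using Nat.le_induction with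
      | base => norm_num
      | succ m hm ih => rw [pow_succ]; nlinarith
    have := hgrow (n - 2) (by omega)
    rw [Nat.sub_add_cancel (by omega)] at this
    omega
  have h8 : n = 8 := by
    have : r ≤ 3 := by
      by_contra h
      have := Nat.pow_le_pow_right (show 1 ≤ 2 by norm_num) (show 4 ≤ r by omega)
      omega
    interval_cases r <;> omega
  refine ⟨h8, OneClass.of_equiv e he fun h h₀ hh hh₀ => ?_, ?_⟩
  · obtain ⟨y, rfl⟩ := QuotientGroup.mk_surjective h
    obtain ⟨y₀, rfl⟩ := QuotientGroup.mk_surjective h₀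
    obtain ⟨t, rfl⟩ := Refl.movers_conj hQ hn hc h8 hh hh₀
    exact ⟨QuotientGroup.mk t, by rw [QuotientGroup.mk_mul, QuotientGroup.mk_mul, QuotientGroup.mk_inv]⟩
  · obtain ⟨l, hl, f, hf, ho, -⟩ := Refl.mover_frame hQ hn hc hgm
    obtain rfl : l = 4 := by omega
    obtain ⟨L, hL⟩ := Refl.similar_plus h8 hc f hf ho
    obtain ⟨eP⟩ := Models.pomega_similitude Q (Cfsg.quadFormPlus 4 (ZMod 3)) L hc hL
    obtain ⟨ec⟩ := Refl.commutator_congr e
    have hZ : Subgroup.center ↥(commutator (↥(Cfsg.reflectionSubgroup (⇑Q) c) ⧸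
        Subgroup.center ↥(Cfsg.reflectionSubgroup (⇑Q) c))) = ⊥ := by
      refine eq_bot_iff.mpr fun w hw => Subgroup.mem_bot.mpr ?_
      have h1 : ec.symm w ∈ Subgroup.center ↥(commutator ↥(Gr D a)) := by
        refine Subgroup.mem_center_iff.mpr fun y => ?_
        obtain ⟨y, rfl⟩ := ec.symm.surjective y
        rw [← map_mul, ← map_mul, Subgroup.mem_center_iff.mp hw y]
      have h2 : Subgroup.center ↥(commutator ↥(Gr D a)) = ⊥ := by
        rw [gr_commutator hG ha]
        refine eq_bot_iff.mpr fun z hz => Subgroup.mem_bot.mpr ?_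
        have hz' : (Subgroup.subgroupOfEquivOfLe (layer_le_gr hG ha)) z ∈ Subgroup.center (layer G) := by
          refine Subgroup.mem_center_iff.mpr fun y => ?_
          obtain ⟨y, rfl⟩ := (Subgroup.subgroupOfEquivOfLe (layer_le_gr hG ha)).surjective y
          rw [← map_mul, ← map_mul, Subgroup.mem_center_iff.mp hz y]
        rw [layer_center hG, Subgroup.mem_bot] at hz'
        exact (MulEquiv.map_eq_one_iff _).mp hz'
      rw [h2, Subgroup.mem_bot] at h1
      exact (MulEquiv.map_eq_one_iff _).mp h1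
    obtain ⟨ed⟩ := Refl.derived_pomega hQ hn hc hZ
    exact ⟨ec.trans (ed.trans eP)⟩

omit hdisc in
theorem not_two_pow : ∀ r : ℕ, 2 ^ r ≠ 22 ∧ 2 ^ r ≠ 23 ∧ 2 ^ r ≠ 24 := by
  intro r
  by_cases h : r ≤ 4
  · interval_cases r <;> norm_num
  · have := Nat.pow_le_pow_right (show 1 ≤ 2 by norm_num) (show 5 ≤ r by omega)
    omega

/-- The two possible models of a fibre. -/
theorem fibre_model (S : Steps.{u}) {a : G} (ha : a ∈ D) :
    OneClass (Fs D a) ∧
      (Nonempty (↥(commutator ↥(Gr D a)) ≃* Cfsg.Omega (ZMod 2) (Cfsg.quadFormPlus 4 (ZMod 2))) ∨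
        Nonempty (↥(commutator ↥(Gr D a)) ≃* Cfsg.POmega (ZMod 3) (Cfsg.quadFormPlus 4 (ZMod 3)))) := by
  classical
  have hP := gr_prim hG ha
  obtain ⟨k, hk⟩ := classify S hP
  obtain ⟨z, hz⟩ := exists_mover hG hdisc ha
  have hgr := cls_group hP.cls
  cases k with
  | sym n =>
    obtain ⟨h5, -, e, he⟩ := hk
    exact absurd (hz.map e he) (swap_moved (by omega) _)
  | symp m =>
    obtain ⟨h2, e, he⟩ := hk
    exact absurd (hz.map e he) (symp_moved (by omega) _)
  | unit n =>
    obtain ⟨h4, F, i1, i2, hF, e, he⟩ := hk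
    exact absurd (hz.map e he) (unit_moved (by rw [hF]; norm_num) h4 _)
  | orth b m =>
    cases b with
    | true =>
      obtain ⟨hm, e, he⟩ := hk
      obtain ⟨rfl, h1⟩ := orth_plus hG hdisc ha hm e he
      exact ⟨h1, Or.inl (Refl.commutator_congr e)⟩
    | false =>
      exfalso
      obtain ⟨hm, e, he⟩ := hk
      have hdim : 8 ≤ Fintype.card ((Fin (m - 1) ⊕ Fin (m - 1)) ⊕ Fin 2) := by simp; omega
      obtain ⟨U, hU, hle⟩ := Orth.mover_singular (Q := formM (m - 1)) (formM_nondeg (m - 1)) hdim (hz.map e he)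
      have h2 := CfsgLib.FiniteForms.minus_totally_singular_le (F := ZMod 2) (a := 1) (b := 1) (by decide) U
        (fun u hu => (formM_coe (m - 1)) ▸ hU u hu)
      simp only [Fintype.card_sum, Fintype.card_fin] at hle
      omega
  | refl n μ c =>
    obtain ⟨hn, Q, hQ, -, hc, e, he⟩ := hk
    obtain ⟨-, h1, h2⟩ := refl_eight hG hdisc ha hn hc hQ e he
    exact ⟨h1, Or.inr h2⟩
  | m22 =>
    exfalso
    obtain ⟨r, hr⟩ := width_pow_two hG hdisc ha
    rw [(Cfsg.Agent.S5373.result hgr hP.prim hk.1 Cfsg.Agent.S5401.result.2.2).2.2.1] at hr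
    exact (not_two_pow hG r).1 hr.symm
  | m23 =>
    exfalso
    obtain ⟨r, hr⟩ := width_pow_two hG hdisc ha
    rw [(Cfsg.Agent.S5374.result hgr hP.prim hk.1 Cfsg.Agent.S5401.result.2.2).2.2.2.1] at hr
    exact (not_two_pow hG r).2.1 hr.symm
  | m24 =>
    exfalso
    obtain ⟨r, hr⟩ := width_pow_two hG hdisc ha
    rw [(Cfsg.Agent.S5375.result hgr hP.prim hk).2.2.2.1] at hr
    exact (not_two_pow hG r).2.2 hr.symm

end CfsgFischer.Triality
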