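/-
The groups generated by a class of 3-transpositions with disconnected commuting graph: three fibres permuted as the
symmetric group of degree three over a hyperbolic orthogonal group in dimension eight.
-/
import Cfsg.Agent.Lib.Fischer.Triality.Kinds
import Cfsg.Agent.Lib.ThreeTrans.Elementary

set_option autoImplicit false

namespace CfsgFischer.Triality

open Cfsg CfsgLib CfsgThreeTrans

universe u

variable {G : Type u} [Group G] [Finite G] {D : Set G}

theorem prods_disjoint (hG : Good D) {d x x' y y' : G} (hx : x ∈ Fib D d) (hx' : x' ∈ Fib D d) (hne : x ≠ x')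
    (hc : Commute x x') (hy : y ∈ D) (hyd : y ∉ Fib D d) (hc' : Commute y y') (e : x * x' = y * y') : False := by
  refine (moves hG hx hx' hy hyd hne hc).1 ?_
  rw [e, mul_inv_eq_iff_eq_mul]
  exact (((Commute.refl y).mul_right hc').eq).symm

theorem three_fibres (hG : Good D) {a b d : G} (ha : a ∈ D) (h1 : OneClass (Fs D a))
    (hb : b ∈ D) (hba : b ∉ Fib D a) (hd : d ∈ D) : d ∈ Fib D a ∨ d ∈ Fib D b ∨ d ∈ Fib D (a * b * a⁻¹) := by
  by_contra h
  push Not at h
  obtain ⟨hda, hdb, hdc⟩ := h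
  obtain ⟨x, hx, x', hx', hne, hc⟩ := exists_pair hG hd
  obtain ⟨z, hz, hzm⟩ := mover_of_pair hG ha hd hda hx hx' hne hc
  have hout : ∀ {b' y : G}, d ∉ Fib D b' → y ∈ Fib D b' → y ∉ Fib D d := fun {b' y} h hy h' => h (by
    rw [← fib_eq hy, fib_eq h']
    exact self_mem hd)
  have haa := mul_self hG.cls.1 ha
  rcases cover hG ha hb hba h1 hzm with ⟨y, hy, y', hy', -, hc', e⟩ | ⟨y, hy, y', hy', -, hc', e⟩
  · exact prods_disjoint hG hx hx' hne hc hy.1 (hout hdb hy) hc' (hz ▸ e)
  · refine prods_disjoint hG hx hx' hne hc (cls_conj hG.cls a hy.1) (hout hdc (fib_cj hG.cls a hy))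
      ((commute_cj_iff a).mpr hc') ?_
    rw [← hz, show a * y * a⁻¹ * (a * y' * a⁻¹) = a * (y * y') * a⁻¹ by group, ← e, inv_self hG.cls.1 ha]
    simp only [mul_assoc]
    rw [haa, mul_one, ← mul_assoc, haa, one_mul]

theorem quotient_three (hG : Good D) (hdisc : ¬ (commutingGraph D).Connected) {a : G} (ha : a ∈ D)
    (h1 : OneClass (Fs D a)) : Nonempty (G ⧸ layer G ≃* Equiv.Perm (Fin 3)) := by
  have hD := hG.cls
  obtain ⟨b, hb, hba⟩ := exists_other hG hdisc ha
  let q := QuotientGroup.mk' (layer G)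
  have hq : ∀ {x y}, q x = q y ↔ x⁻¹ * y ∈ layer G := fun {x y} => QuotientGroup.eq
  have hq1 : ∀ {x}, x ∈ D → q x ≠ 1 := fun {x} hx h => by
    have hxl : x ∈ layer G := (QuotientGroup.eq_one_iff x).mp h
    have key : ∀ y ∈ D, y ∈ layer G := fun y hy => by
      obtain ⟨g, rfl⟩ := cls_exists_conj hD hx hy
      exact (inferInstance : (layer G).Normal).conj_mem _ hxl g
    exact hba ⟨hb, mul_mem (inv_mem (key a ha)) (key b hb)⟩
  have hts : IsThreeTranspositionSet (q '' D) := by
    constructor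
    · rintro _ ⟨x, hx, rfl⟩
      refine orderOf_eq_prime ?_ (hq1 hx)
      rw [← map_pow, sq, mul_self hD.1 hx, map_one]
    · rintro _ ⟨x, hx, rfl⟩ _ ⟨y, hy, rfl⟩
      rcases hD.1.2 x hx y hy with h | h
      · exact Or.inl (by rw [← map_mul, ← map_pow, h, map_one])
      · exact Or.inr (by rw [← map_mul, ← map_pow, h, map_one])
  have hnc : ¬ Commute (q a) (q b) := by
    intro hc
    have h3 : (q a * q b) ^ 3 = 1 := by
      rw [← map_mul, ← map_pow, CfsgThreeTrans.pow_three hD.1 ha hb (not_commute hG ha hb hba), map_one]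
    have h2 : (q a * q b) ^ 2 = 1 := by
      rw [hc.mul_pow, sq, sq, ← map_mul, ← map_mul, mul_self hD.1 ha, mul_self hD.1 hb, map_one, mul_one]
    rw [pow_succ, h2, one_mul, ← inv_self hts (Set.mem_image_of_mem q ha), inv_mul_eq_one] at h3
    exact hba ⟨hb, hq.mp h3⟩
  have hgen : Subgroup.closure ({q a, q b} : Set (G ⧸ layer G)) = ⊤ := by
    rw [eq_top_iff, ← Subgroup.map_top_of_surjective q (QuotientGroup.mk'_surjective _), ← hD.2.2,
      MonoidHom.map_closure]
    refine (Subgroup.closure_le _).mpr ?_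
    rintro _ ⟨d, hd, rfl⟩
    set C := Subgroup.closure ({q a, q b} : Set (G ⧸ layer G))
    have hqa : q a ∈ C := Subgroup.subset_closure (Or.inl rfl)
    have hqb : q b ∈ C := Subgroup.subset_closure (Or.inr rfl)
    rcases three_fibres hG ha h1 hb hba hd with h | h | h
    · exact (hq.mpr h.2) ▸ hqa
    · exact (hq.mpr h.2) ▸ hqb
    · rw [SetLike.mem_coe, ← hq.mpr h.2, map_mul, map_mul, map_inv]
      exact mul_mem (mul_mem hqa hqb) (inv_mem hqa)
  obtain ⟨e⟩ := S3_iso hts (Set.mem_image_of_mem q ha) (Set.mem_image_of_mem q hb) hnc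
  exact ⟨(Subgroup.topEquiv.symm.trans (MulEquiv.subgroupCongr hgen.symm)).trans e⟩

/-- The groups with disconnected commuting graph. -/
theorem triality (S : Steps.{u}) : CfsgFischer.Triality.{u} := by
  intro G _ _ D hG hdisc F _ hF
  obtain ⟨a, ha, -⟩ := hG.pair
  have hL : F = layer G := by
    rw [hF, generalized_eq hG.cls (h2 hG) (h3 hG), hG.center, sup_bot_eq]
  subst hL
  refine ⟨quotient_three hG hdisc ha (fibre_model hG hdisc S ha).1, ?_⟩
  let e : ↥(layer G) ≃* ↥(commutator ↥(Gr D a)) :=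
    (Subgroup.subgroupOfEquivOfLe (layer_le_gr hG ha)).symm.trans (MulEquiv.subgroupCongr (gr_commutator hG ha).symm)
  exact (fibre_model hG hdisc S ha).2.imp (fun f => f.map e.trans) (fun f => f.map e.trans)

/-- A disconnected class one of whose fibres is a projective reflection class in dimension at least five over three
elements: three fibres over the hyperbolic orthogonal group in dimension eight. -/
theorem triality_refl (hG : Good D) (hdisc : ¬ (commutingGraph D).Connected) {a : G} (ha : a ∈ D) {n : ℕ} {μ c : ZMod 3}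
    (hk : Has ↥(Gr D a) (Fs D a) (.refl n μ c)) :
    Nonempty (G ⧸ layer G ≃* Equiv.Perm (Fin 3)) ∧
      Nonempty (↥(layer G) ≃* Cfsg.POmega (ZMod 3) (Cfsg.quadFormPlus 4 (ZMod 3))) := by
  obtain ⟨hn, Q, hQ, -, hc, e, he⟩ := hk
  obtain ⟨-, h1, ⟨f⟩⟩ := refl_eight hG hdisc ha hn hc hQ e he
  exact ⟨quotient_three hG hdisc ha h1,
    ⟨((Subgroup.subgroupOfEquivOfLe (layer_le_gr hG ha)).symm.trans
      (MulEquiv.subgroupCongr (gr_commutator hG ha).symm)).trans f⟩⟩

end CfsgFischer.Triality
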